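import Cfsg.Agent.H263.TW.Pol

/-!
# The chain lemma of case (B) (helper263, S3414)
-/

set_option autoImplicit false

namespace Cfsg.Agent.H263.TW

open Subgroup Cfsg.Agent.H873.Tits Cfsg.Agent.Lib Cfsg.Agent.Lib.LocalCore Cfsg.Agent.H900.TWCore

universe u v

variable {G : Type u} [Group G] {V : Type v} [MulAction G V]

/-! ### images on the neighbours -/

section Img

variable {P : Pol G V} {v : V} {X X' : Subgroup G}

theorem mem_img {σ : Equiv.Perm {w : V // P.adj v w}} :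
    σ ∈ P.img v X ↔ ∃ g : G, ∃ hg : g ∈ P.S v, g ∈ X ∧ P.toPerm v ⟨g, hg⟩ = σ := by
  constructor
  · rintro ⟨g, hg, rfl⟩
    exact ⟨g, g.2, hg, rfl⟩
  · rintro ⟨g, hg, hX, rfl⟩
    exact ⟨⟨g, hg⟩, hX, rfl⟩

theorem img_mono (h : X ≤ X') : P.img v X ≤ P.img v X' := by
  intro σ hσ
  obtain ⟨g, hg, hX, rfl⟩ := mem_img.1 hσ
  exact mem_img.2 ⟨g, hg, h hX, rfl⟩

theorem img_le_L : P.img v X ≤ P.L v := by
  intro σ hσ
  obtain ⟨g, hg, hX, rfl⟩ := mem_img.1 hσ
  exact mem_img.2 ⟨g, hg, hg, rfl⟩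

theorem toPerm_eq_one {g : G} (hg : g ∈ P.S v) : P.toPerm v ⟨g, hg⟩ = 1 ↔ g ∈ P.K v := by
  constructor
  · intro h
    refine ⟨hg, fun w hw => ?_⟩
    have := congrArg (fun σ => ((σ ⟨w, hw⟩ : {w : V // P.adj v w}) : V)) h
    simpa using this
  · intro h
    ext w
    simpa using h.2 w.1 w.2

/-- the stabilizer of a neighbour -/
theorem img_S {x : V} (hx : P.adj v x) : P.img v (P.S x) = Stb (P.L v) ⟨x, hx⟩ := by
  apply le_antisymm
  · intro σ hσ
    obtain ⟨g, hg, hX, rfl⟩ := mem_img.1 hσ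
    exact ⟨mem_img.2 ⟨g, hg, hg, rfl⟩, Subtype.ext hX⟩
  · rintro σ ⟨h1, h2⟩
    obtain ⟨g, hg, -, rfl⟩ := mem_img.1 h1
    exact mem_img.2 ⟨g, hg, congrArg Subtype.val h2, rfl⟩

theorem img_S_inf {x z : V} (hx : P.adj v x) (hz : P.adj v z) :
    P.img v (P.S x ⊓ P.S z) = Stb (P.L v) ⟨x, hx⟩ ⊓ Stb (P.L v) ⟨z, hz⟩ := by
  apply le_antisymm
  · refine le_inf ?_ ?_
    · rw [← img_S hx]; exact img_mono inf_le_left
    · rw [← img_S hz]; exact img_mono inf_le_right
  · rintro σ ⟨⟨h1, h2⟩, -, h3⟩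
    obtain ⟨g, hg, -, rfl⟩ := mem_img.1 h1
    exact mem_img.2 ⟨g, hg, ⟨congrArg Subtype.val h2, congrArg Subtype.val h3⟩, rfl⟩

/-- `|X| = |img v X| * |X ⊓ K v|` -/
theorem card_img [Finite G] (hX : X ≤ P.S v) : Nat.card (P.img v X) * Nat.card ↥(X ⊓ P.K v) = Nat.card X := by
  let f : X →* Equiv.Perm {w : V // P.adj v w} := (P.toPerm v).comp (Subgroup.inclusion hX)
  have h1 : f.range = P.img v X := by
    ext σ
    rw [mem_img]
    constructor
    · rintro ⟨g, rfl⟩
      exact ⟨g, hX g.2, g.2, rfl⟩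
    · rintro ⟨g, hg, hgX, rfl⟩
      exact ⟨⟨g, hgX⟩, rfl⟩
  have h2 : f.ker = (X ⊓ P.K v).subgroupOf X := by
    ext g
    rw [MonoidHom.mem_ker, mem_subgroupOf, mem_inf]
    change P.toPerm v ⟨g, hX g.2⟩ = 1 ↔ _
    rw [toPerm_eq_one]
    exact ⟨fun h => ⟨g.2, h⟩, fun h => h.2⟩
  have h3 := f.ker.card_mul_index
  rw [Subgroup.index_ker, h1, h2] at h3
  have h4 : Nat.card ↥((X ⊓ P.K v).subgroupOf X) = Nat.card ↥(X ⊓ P.K v) :=
    Nat.card_congr (Subgroup.subgroupOfEquivOfLe inf_le_left).toEquiv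
  rw [h4] at h3
  rw [mul_comm]
  exact h3

theorem img_normal (hn : ∀ g ∈ X, ∀ a ∈ X', g * a * g⁻¹ ∈ X') :
    ((P.img v X').subgroupOf (P.img v X)).Normal := by
  constructor
  rintro ⟨σ, hσ⟩ hσ' ⟨τ, hτ⟩
  obtain ⟨g, hg, hgX, rfl⟩ := mem_img.1 hτ
  obtain ⟨a, ha, haX, hae⟩ := mem_img.1 (show σ ∈ P.img v X' from hσ')
  refine mem_img.2 ⟨g * a * g⁻¹, (P.S v).mul_mem ((P.S v).mul_mem hg ha) ((P.S v).inv_mem hg), hn g hgX a haX, ?_⟩
  show P.toPerm v (⟨g, hg⟩ * ⟨a, ha⟩ * ⟨g, hg⟩⁻¹) = _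
  rw [map_mul, map_mul, map_inv, hae]
  rfl

theorem finite_nb (P : Pol G V) (v : V) : Finite {w : V // P.adj v w} := by
  have h3 : Nat.card {w : V // P.adj v w} ≠ 0 := by rw [P.card_nb v]; omega
  exact (Nat.card_ne_zero.1 h3).2

/-- `|Stb x| = t * |T2|` -/
theorem card_Stb [Finite G] (F : Facts P) {x z : V} (hx : P.adj v x) (hz : P.adj v z) (hxz : x ≠ z) :
    Nat.card ↥(P.img v (P.S x)) = P.q (P.tp v) * P.T2 v x z := by
  classical
  have := finite_nb P v
  let A := P.img v (P.S x)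
  let z' : {w : V // P.adj v w} := ⟨z, hz⟩
  have h1 : MulAction.orbit A z' = {w | w.1 ≠ x} := by
    ext w
    constructor
    · rintro ⟨⟨σ, hσ⟩, rfl⟩
      obtain ⟨g, hg, hgX, rfl⟩ := mem_img.1 hσ
      intro h
      have h' : g • z = x := h
      apply hxz
      rw [← mem_S.1 hgX] at h'
      exact (smul_left_cancel g h').symm
    · intro hw
      obtain ⟨g, hg, h1, h2⟩ := F.two_trans hx hz hxz hx w.2 (Ne.symm hw)
      exact ⟨⟨P.toPerm v ⟨g, hg⟩, mem_img.2 ⟨g, hg, h1, rfl⟩⟩, Subtype.ext h2⟩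
  have h2 : Nat.card (MulAction.orbit A z') = P.q (P.tp v) := by
    rw [h1]
    have h3 : Nat.card {w : {w : V // P.adj v w} | w.1 ≠ x} = Nat.card {w : V // P.adj v w} - 1 := by
      have h4 : {w : {w : V // P.adj v w} | w.1 ≠ x} = ({⟨x, hx⟩} : Set _)ᶜ := by
        ext w
        simp only [Set.mem_ofPred_eq, Set.mem_compl_iff, Set.mem_singleton_iff, ne_eq]
        exact not_congr ⟨fun h => Subtype.ext h, fun h => congrArg Subtype.val h⟩
      rw [h4, Nat.card_coe_set_eq, Set.ncard_compl, Set.ncard_singleton]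
    rw [h3, P.card_nb]
    rfl
  have h5 : Nat.card (MulAction.stabilizer A z') = P.T2 v x z := by
    unfold Pol.T2
    have h6 : (P.img v (P.S x ⊓ P.S z)).subgroupOf A = MulAction.stabilizer A z' := by
      ext ⟨σ, hσ⟩
      rw [mem_subgroupOf]
      constructor
      · intro h
        obtain ⟨g, hg, hgX, hgs⟩ := mem_img.1 h
        have : σ z' = z' := by
          rw [← show P.toPerm v ⟨g, hg⟩ = σ from hgs]
          exact Subtype.ext hgX.2
        exact this
      · intro h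
        obtain ⟨g, hg, hgX, rfl⟩ := mem_img.1 hσ
        exact mem_img.2 ⟨g, hg, ⟨hgX, congrArg Subtype.val (show P.toPerm v ⟨g, hg⟩ z' = z' from h)⟩, rfl⟩
    rw [← h6]
    exact Nat.card_congr (Subgroup.subgroupOfEquivOfLe (img_mono inf_le_left)).toEquiv
  have h7 := Nat.card_congr (MulAction.orbitEquivQuotientStabilizer A z')
  have h8 := (MulAction.stabilizer A z').card_mul_index
  rw [Subgroup.index, ← h7, h2, h5] at h8
  rw [← h8, mul_comm]

end Img

/-! ### The kernels `EB v` on the balls of radius two -/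

section Ball

variable {P : Pol G V} {b : Bool}

/-- the kernel on the ball of radius two about `v` -/
def EB (P : Pol G V) (v : V) : Subgroup G := P.K v ⊓ ⨅ x : {x // P.adj v x}, P.K x.1

theorem EB_le_K (v : V) : EB P v ≤ P.K v := inf_le_left

theorem EB_le_K_nb {v x : V} (h : P.adj v x) : EB P v ≤ P.K x :=
  inf_le_right.trans (iInf_le (fun x : {x // P.adj v x} => P.K x.1) ⟨x, h⟩)

theorem mem_EB {v : V} {g : G} : g ∈ EB P v ↔ g ∈ P.K v ∧ ∀ x, P.adj v x → g ∈ P.K x := by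
  constructor
  · exact fun h => ⟨EB_le_K v h, fun x hx => EB_le_K_nb hx h⟩
  · rintro ⟨h1, h2⟩
    exact mem_inf.2 ⟨h1, mem_iInf.2 fun x => h2 x.1 x.2⟩

theorem EB_fix {v x w : V} (h : P.adj v x) (h' : P.adj x w) {g : G} (hg : g ∈ EB P v) : g • w = w :=
  (EB_le_K_nb h hg).2 w h'

theorem EB_smul (g : G) (v : V) : EB P (g • v) = (EB P v).map (MulAut.conj g).toMonoidHom := by
  ext a
  rw [mem_map_equiv, MulAut.conj_symm_apply, mem_EB, mem_EB, K_smul, mem_map_equiv, MulAut.conj_symm_apply]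
  refine and_congr_right fun _ => ?_
  constructor
  · intro h x hx
    have := h (g • x) (P.smul_adj g hx)
    rwa [K_smul, mem_map_equiv, MulAut.conj_symm_apply] at this
  · intro h x hx
    have h1 : P.adj v (g⁻¹ • x) := by
      have := P.smul_adj g⁻¹ hx
      rwa [inv_smul_smul] at this
    have h2 := conj_mem_K' (g := g) (h _ h1)
    rw [smul_inv_smul] at h2
    rwa [show g * (g⁻¹ * a * g) * g⁻¹ = a by group] at h2

theorem conj_mem_EB {v : V} {g a : G} (hg : g ∈ P.S v) (ha : a ∈ EB P v) : g * a * g⁻¹ ∈ EB P v := by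
  have h1 : g * a * g⁻¹ ∈ EB P (g • v) := by
    rw [EB_smul]
    exact ⟨a, ha, rfl⟩
  rwa [mem_S.1 hg] at h1

/-- In case (B) the group `K x ⊓ K v` is the kernel on the ball. -/
theorem EB_eq (hB : CaseB P b) {x v : V} (hv : P.tp v = b) (h : P.adj x v) : P.K x ⊓ P.K v = EB P v := by
  apply le_antisymm
  · intro g hg
    exact mem_EB.2 ⟨hg.2, fun z hz => hB.ball hv h (P.symm hz) hg⟩
  · exact le_inf (EB_le_K_nb (P.symm h)) (EB_le_K v)

end Ball

/-! ### The chain -/

section Chain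

variable {P : Pol G V} {b : Bool}

/-- `EB (p a) ⊓ EB (p (a + 2)) ⊓ ... ⊓ EB (p (a + 2 k))` -/
def J (P : Pol G V) (p : ℕ → V) (a : ℕ) : ℕ → Subgroup G
  | 0 => EB P (p a)
  | k + 1 => J P p a k ⊓ EB P (p (a + 2 * (k + 1)))

theorem J_succ' (p : ℕ → V) (a k : ℕ) : J P p a (k + 1) = EB P (p a) ⊓ J P p (a + 2) k := by
  induction k with
  | zero => rfl
  | succ k ih =>
    rw [J, ih, J, inf_assoc, show a + 2 + 2 * (k + 1) = a + 2 * (k + 1 + 1) by ring]

theorem J_le (p : ℕ → V) (a k : ℕ) {j : ℕ} (hj : j ≤ k) : J P p a k ≤ EB P (p (a + 2 * j)) := by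
  induction k with
  | zero =>
    obtain rfl : j = 0 := by omega
    exact le_rfl
  | succ k ih =>
    rcases Nat.lt_or_ge j (k + 1) with h | h
    · exact inf_le_left.trans (ih (by omega))
    · obtain rfl : j = k + 1 := by omega
      exact inf_le_right

theorem J_anti (p : ℕ → V) (a k : ℕ) : J P p a (k + 1) ≤ J P p a k := inf_le_left

theorem J_smul {p p' : ℕ → V} {a a' k : ℕ} {g : G} (h : ∀ j, j ≤ k → g • p (a + 2 * j) = p' (a' + 2 * j)) :
    J P p' a' k = (J P p a k).map (MulAut.conj g).toMonoidHom := by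
  induction k with
  | zero =>
    have h0 := h 0 le_rfl
    simp only [Nat.mul_zero, Nat.add_zero] at h0
    rw [J, J, ← EB_smul, h0]
  | succ k ih =>
    rw [J, J, ih (fun j hj => h j (by omega)), ← h (k + 1) le_rfl, EB_smul,
      Subgroup.map_inf _ _ _ (MulAut.conj g).injective]

theorem tp_add_two {p : ℕ → V} {k i : ℕ} (hp : IsPath P.adj k p) (hi : i + 2 ≤ k) : P.tp (p (i + 2)) = P.tp (p i) := by
  rw [P.tp_adj (hp.1 (i + 1) (by omega)), P.tp_adj (hp.1 i (by omega)), Bool.not_not]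

/-- the groups `J` for the shifted path are conjugate -/
theorem card_J_shift [Finite G] {p : ℕ → V} (hp : IsPath P.adj (P.n + 1) p) {a k : ℕ} (h : a + 2 + 2 * k ≤ P.n + 1) :
    Nat.card (J P p (a + 2) k) = Nat.card (J P p a k) := by
  have h1 : IsPath P.adj (2 * k) (fun i => p (a + i)) :=
    ⟨fun i hi => hp.1 (a + i) (by omega), fun i hi => hp.2 (a + i) (by omega)⟩
  have h2 : IsPath P.adj (2 * k) (fun i => p (a + 2 + i)) := by
    refine ⟨fun i hi => ?_, fun i hi => ?_⟩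
    · have := hp.1 (a + 2 + i) (by omega)
      rwa [show a + 2 + i + 1 = a + 2 + (i + 1) by ring] at this
    · have := hp.2 (a + 2 + i) (by omega)
      rwa [show a + 2 + i + 2 = a + 2 + (i + 2) by ring] at this
  obtain ⟨g, hg⟩ := P.trans (by omega) h1 h2 (by simpa using (tp_add_two hp (i := a) (by omega)).symm)
  rw [J_smul (p := p) (p' := p) (a := a) (a' := a + 2) (k := k) (g := g) fun j hj => hg (2 * j) (by omega)]
  exact (Nat.card_congr ((J P p a k).equivMapOfInjective _ (MulAut.conj g).injective).toEquiv).symm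

theorem tp_odd {p : ℕ → V} (hp : IsPath P.adj (P.n + 1) p) (h1 : P.tp (p 1) = b) {j : ℕ} (hj : 1 + 2 * j ≤ P.n + 1) :
    P.tp (p (1 + 2 * j)) = b := by
  induction j with
  | zero => exact h1
  | succ j ih =>
    have := tp_add_two hp (i := 1 + 2 * j) (by omega)
    rw [show 1 + 2 * (j + 1) = 1 + 2 * j + 2 by ring, this]
    exact ih (by omega)

theorem J_inf_K (hB : CaseB P b) {p : ℕ → V} (hp : IsPath P.adj (P.n + 1) p) (h1 : P.tp (p 1) = b) (k : ℕ) :
    J P p 3 k ⊓ P.K (p 1) = J P p 1 (k + 1) := by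
  have hn : 4 ≤ P.n := by rcases P.hn with h | h | h <;> omega
  have h12 := hp.1 1 (by omega)
  have h23 := hp.1 2 (by omega)
  rw [J_succ', ← EB_eq hB h1 (P.symm h12)]
  apply le_antisymm
  · refine le_inf (le_inf ?_ inf_le_right) inf_le_left
    exact inf_le_left.trans ((J_le p 3 k (Nat.zero_le k)).trans (EB_le_K_nb (P.symm h23)))
  · exact le_inf inf_le_right (inf_le_left.trans inf_le_right)

theorem J_eq_bot (F : Facts P) {p : ℕ → V} (hp : IsPath P.adj (P.n + 1) p) : J P p 1 (P.n / 2 - 1) = ⊥ := by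
  have hn : 4 ≤ P.n ∧ P.n = 2 * (P.n / 2) := by rcases P.hn with h | h | h <;> rw [h] <;> decide
  obtain ⟨hn4, hn2⟩ := hn
  rw [eq_bot_iff]
  intro g hg
  rw [mem_bot]
  have h0 : g ∈ EB P (p 1) := by
    have := J_le p 1 (P.n / 2 - 1) (Nat.zero_le _) hg
    simpa using this
  refine F.rigid (p := p) (i := 1) hp (by omega) (EB_le_K _ h0) (EB_le_K_nb (hp.1 1 (by omega)) h0) ?_
  refine mem_iInf.2 ?_
  rintro ⟨i, hi⟩
  show g • p i = p i
  rcases Nat.eq_zero_or_pos i with rfl | hi0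
  · exact (EB_le_K _ h0).2 _ (P.symm (hp.1 0 (by omega)))
  obtain ⟨j, hj⟩ : ∃ j, i = 1 + 2 * j ∨ i = 2 + 2 * j := ⟨(i - 1) / 2, by omega⟩
  by_cases hjm : j ≤ P.n / 2 - 1
  · have h2 := J_le p 1 (P.n / 2 - 1) hjm hg
    rcases hj with rfl | rfl
    · exact (EB_le_K _ h2).1
    · have h3 := hp.1 (1 + 2 * j) (by omega)
      rw [show 1 + 2 * j + 1 = 2 + 2 * j by ring] at h3
      exact (EB_le_K _ h2).2 _ h3
  · obtain rfl : i = P.n + 1 := by omega
    have h2 := J_le p 1 (P.n / 2 - 1) le_rfl hg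
    have h3 := hp.1 (1 + 2 * (P.n / 2 - 1)) (by omega)
    have h4 := hp.1 (1 + 2 * (P.n / 2 - 1) + 1) (by omega)
    rw [show 1 + 2 * (P.n / 2 - 1) + 1 + 1 = P.n + 1 by omega] at h4
    exact EB_fix h3 h4 h2

/-- an element of `J P p 3 (m - 2)` fixing a further neighbour of `p 1` is trivial -/
theorem J_semireg (F : Facts P) {p : ℕ → V} (hp : IsPath P.adj (P.n + 1) p) {g : G}
    (hg : g ∈ J P p 3 (P.n / 2 - 2)) {u : V} (hu : P.adj (p 1) u) (hne : u ≠ p 2) (hgu : g • u = u) : g = 1 := by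
  have hn : 4 ≤ P.n ∧ P.n = 2 * (P.n / 2) := by rcases P.hn with h | h | h <;> rw [h] <;> decide
  obtain ⟨hn4, hn2⟩ := hn
  -- replace `p 0` by `u`
  set p' : ℕ → V := fun i => if i = 0 then u else p i with hp'
  have hp0 : ∀ i, i ≠ 0 → p' i = p i := fun i hi => if_neg hi
  have hpath : IsPath P.adj (P.n + 1) p' := by
    refine ⟨fun i hi => ?_, fun i hi => ?_⟩
    · rcases Nat.eq_zero_or_pos i with rfl | hi0
      · show P.adj (p' 0) (p' 1)
        rw [hp0 1 (by omega)]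
        exact P.symm hu
      · rw [hp0 i (by omega), hp0 (i + 1) (by omega)]
        exact hp.1 i hi
    · rcases Nat.eq_zero_or_pos i with rfl | hi0
      · show p' 2 ≠ u
        rw [hp0 2 (by omega)]
        exact hne.symm
      · rw [hp0 i (by omega), hp0 (i + 2) (by omega)]
        exact hp.2 i hi
  have h3 : g ∈ EB P (p 3) := by
    have := J_le p 3 (P.n / 2 - 2) (Nat.zero_le _) hg
    simpa using this
  have h2 : g ∈ P.K (p 2) := EB_le_K_nb (P.symm (hp.1 2 (by omega))) h3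
  refine F.rigid (p := p') (i := 2) hpath (by omega) ?_ ?_ ?_
  · rw [hp0 2 (by omega)]; exact h2
  · rw [hp0 3 (by omega)]; exact EB_le_K _ h3
  · refine mem_iInf.2 ?_
    rintro ⟨i, hi⟩
    show g • p' i = p' i
    rcases Nat.eq_zero_or_pos i with rfl | hi0
    · exact hgu
    rw [hp0 i (by omega)]
    by_cases hi1 : i = 1
    · subst hi1
      exact h2.2 _ (P.symm (hp.1 1 (by omega)))
    by_cases hi2 : i = 2
    · subst hi2
      exact h2.1
    obtain ⟨j, hj⟩ : ∃ j, i = 3 + 2 * j ∨ i = 4 + 2 * j := ⟨(i - 3) / 2, by omega⟩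
    by_cases hjm : j ≤ P.n / 2 - 2
    · have h2 := J_le p 3 (P.n / 2 - 2) hjm hg
      rcases hj with rfl | rfl
      · exact (EB_le_K _ h2).1
      · have h3 := hp.1 (3 + 2 * j) (by omega)
        rw [show 3 + 2 * j + 1 = 4 + 2 * j by ring] at h3
        exact (EB_le_K _ h2).2 _ h3
    · obtain rfl : i = P.n + 1 := by omega
      have h2 := J_le p 3 (P.n / 2 - 2) le_rfl hg
      have h3 := hp.1 (3 + 2 * (P.n / 2 - 2)) (by omega)
      have h4 := hp.1 (3 + 2 * (P.n / 2 - 2) + 1) (by omega)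
      rw [show 3 + 2 * (P.n / 2 - 2) + 1 + 1 = P.n + 1 by omega] at h4
      exact EB_fix h3 h4 h2

/-- the image of `J P p 3 k` is subnormal in the point stabilizer -/
theorem img_J_subnormal {p : ℕ → V} (hp : IsPath P.adj (P.n + 1) p) {k : ℕ} (hk : 3 + 2 * k ≤ P.n + 1) :
    J P p 3 k ≤ P.S (p 1) ⊓ P.S (p 2) ∧
    ((P.img (p 1) (J P p 3 k)).subgroupOf (P.img (p 1) (P.S (p 2)))).IsSubnormal := by
  have hn : 4 ≤ P.n := by rcases P.hn with h | h | h <;> omega
  have h12 := hp.1 1 (by omega)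
  have h23 := hp.1 2 (by omega)
  have hEK : EB P (p 3) ≤ P.K (p 2) := EB_le_K_nb (P.symm h23)
  have hJK : ∀ k, J P p 3 k ≤ P.K (p 2) := fun k => ((J_le p 3 k (Nat.zero_le k)).trans hEK)
  refine ⟨le_inf ((hJK k).trans (K_le_S_nb (P.symm h12))) ((hJK k).trans (P.K_le_S _)), ?_⟩
  -- the first step
  have hK : ((P.img (p 1) (P.K (p 2))).subgroupOf (P.img (p 1) (P.S (p 2)))).Normal :=
    img_normal fun g hg a ha => conj_mem_K hg ha
  have hstep : ∀ {X X' : Subgroup G}, X' ≤ X → X ≤ P.S (p 2) → (∀ g ∈ X, ∀ a ∈ X', g * a * g⁻¹ ∈ X') →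
      ((P.img (p 1) X).subgroupOf (P.img (p 1) (P.S (p 2)))).IsSubnormal →
      ((P.img (p 1) X').subgroupOf (P.img (p 1) (P.S (p 2)))).IsSubnormal := by
    intro X X' h h' hn' hs
    refine IsSubnormal.step _ _ (fun σ hσ => img_mono h hσ) hs ?_
    constructor
    rintro ⟨⟨σ, hσ⟩, hσ1⟩ hσ' ⟨⟨τ, hτ⟩, hτ'⟩
    have h1 := (img_normal (P := P) (v := p 1) hn').conj_mem ⟨σ, img_mono h (show σ ∈ P.img (p 1) X' from hσ')⟩
      (show σ ∈ P.img (p 1) X' from hσ') ⟨τ, hτ'⟩
    exact h1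
  have h0 : ((P.img (p 1) (J P p 3 0)).subgroupOf (P.img (p 1) (P.S (p 2)))).IsSubnormal := by
    refine hstep hEK (P.K_le_S _) (fun g hg a ha => conj_mem_EB ?_ ha) hK.isSubnormal
    exact hg.2 _ h23
  induction k with
  | zero => exact h0
  | succ k ih =>
    refine hstep (J_anti p 3 k) ((hJK k).trans (P.K_le_S _)) (fun g hg a ha => ?_) (ih (by omega))
    refine ⟨?_, ?_⟩
    · exact (J P p 3 k).mul_mem ((J P p 3 k).mul_mem hg ha.1) ((J P p 3 k).inv_mem hg)
    · refine conj_mem_EB ?_ ha.2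
      have h2 := J_le p 3 k le_rfl hg
      have h3 := hp.1 (3 + 2 * k) (by omega)
      have h4 := hp.1 (3 + 2 * k + 1) (by omega)
      rw [show 3 + 2 * k + 1 + 1 = 3 + 2 * (k + 1) by ring] at h4
      exact EB_fix h3 h4 h2

/-- the two point stabilizer and `idx` in case (B) -/
theorem caseB_T2 [Finite G] (F : Facts P) (hB : CaseB P b) {p : ℕ → V} (hp : IsPath P.adj (P.n + 1) p)
    (h1 : P.tp (p 1) = b) {y' : V} (hy' : P.Opp (p 1) y') :
    P.T2 (p 1) (p 0) (p 2) = P.idx (p 1) y' * Nat.card ↥(P.H p) := by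
  have hn : 4 ≤ P.n := by rcases P.hn with h | h | h <;> omega
  have h2 := F.count_T2 (i := 0) hy' hp (by omega) rfl
  have h3 := F.card_k (i := 1) hy' hp (by omega) rfl
  rw [F.caseB_k hB h1 hy', Subgroup.card_bot] at h3
  rw [← h3, mul_one] at h2
  exact h2

theorem T2_symm (v a c : V) : P.T2 v a c = P.T2 v c a := by
  unfold Pol.T2
  rw [inf_comm]

/-- `i_y |K y| = t^(m-1) s^m` -/
theorem caseB_idx (F : Facts P) (hB : CaseB P b) {y y' : V} (h1 : P.tp y = b) (hy' : P.Opp y y') :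
    P.idx y y' * Nat.card ↥(P.K y) = P.q b ^ (P.n / 2 - 1) * P.q (!b) ^ (P.n / 2) := by
  have h2 := F.count_opp hy'
  rw [F.caseB_k hB h1 hy', Subgroup.card_bot, mul_one, h1] at h2
  exact h2

/-- `|K y| = |E| * |N_x|` and `|N_x|` divides `s` -/
theorem caseB_card_K [Finite G] (F : Facts P) (hB : CaseB P b) {x y w : V} (hy : P.tp y = b) (hxy : P.adj y x)
    (hxw : P.adj x w) (hw : w ≠ y) :
    ∃ d, d ∣ P.q (!b) ∧ Nat.card ↥(P.K y) = Nat.card (EB P y) * d := by
  have h1 : P.K y ⊓ P.S w = EB P y := by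
    apply le_antisymm
    · rw [← EB_eq hB hy (P.symm hxy)]
      exact le_inf (hB.semireg hy (P.symm hxy) (P.symm hxw) hw) inf_le_left
    · exact le_inf (EB_le_K y) fun g hg => EB_fix hxy hxw hg
  refine ⟨(EB P y).relIndex (P.K y), ?_, ?_⟩
  · have h2 := F.relIndex_dvd (x := y) (y := x) (w := w) hxy (P.symm hxw) hw.symm
    rw [h1, P.tp_adj hxy, hy] at h2
    exact h2
  · have h3 := Subgroup.card_mul_index ((EB P y).subgroupOf (P.K y))
    rw [Nat.card_congr (Subgroup.subgroupOfEquivOfLe (EB_le_K (P := P) y)).toEquiv] at h3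
    exact h3.symm

/-- **The chain lemma.** -/
theorem chain [Finite G] (F : Facts P) (hB : CaseB P b) {r : ℕ} (hr : r.Prime) {x y z : V} (hx : P.adj y x)
    (hz : P.adj y z) (hxz : x ≠ z) (hy : P.tp y = b) (h2 : ¬ r ∣ P.T2 y x z) :
    ¬ r ∣ P.q (!b) ∧ (Nat.card (EB P y)).factorization r = (P.n / 2 - 1) * (P.q b).factorization r ∧
    ∃ M : Subgroup (Equiv.Perm {w : V // P.adj y w}), M ≤ Stb (P.L y) ⟨x, hx⟩ ∧
      (M.subgroupOf (Stb (P.L y) ⟨x, hx⟩)).IsSubnormal ∧
      (∀ g ∈ M, ∀ u, u ≠ ⟨x, hx⟩ → g u = u → g = 1) ∧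
      (Nat.card M).factorization r = (P.q b).factorization r := by
  have hn : 4 ≤ P.n ∧ P.n = 2 * (P.n / 2) := by rcases P.hn with h | h | h <;> rw [h] <;> decide
  obtain ⟨hn4, hn2⟩ := hn
  -- the path
  obtain ⟨p, hp, hpe⟩ := F.extend (k := 2) (p := fun i => if i = 0 then z else if i = 1 then y else x) (by omega)
    ⟨fun i hi => by
      have : i = 0 ∨ i = 1 := by omega
      rcases this with rfl | rfl
      · simpa using P.symm hz
      · simpa using hx, fun i hi => by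
      obtain rfl : i = 0 := by omega
      simpa using hxz⟩
  have hp0 : p 0 = z := by simpa using hpe 0 (by omega)
  have hp1 : p 1 = y := by simpa using hpe 1 (by omega)
  have hp2 : p 2 = x := by simpa using hpe 2 (by omega)
  have hb : P.tp (p 1) = b := by rw [hp1]; exact hy
  obtain ⟨y', hy'⟩ := F.exists_opp y
  have hT := caseB_T2 F hB hp hb (by rw [hp1]; exact hy')
  rw [hp0, hp1, hp2, T2_symm] at hT
  have hidx : (P.idx y y').factorization r = 0 := by
    apply Nat.factorization_eq_zero_of_not_dvd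
    intro h
    exact h2 (hT ▸ h.mul_right _)
  have hcount := caseB_idx F hB hy hy'
  obtain ⟨d, hd, hK⟩ := caseB_card_K F hB hy hx (w := p 3) (by rw [← hp2]; exact hp.1 2 (by omega))
    (by rw [← hp1]; exact hp.2 1 (by omega))
  set τ := (P.q b).factorization r with hτ
  set σ := (P.q (!b)).factorization r with hσ
  have hqb : P.q b ≠ 0 := by have := P.two_le b; omega
  have hqb' : P.q (!b) ≠ 0 := by have := P.two_le (!b); omega
  have hE0 : Nat.card (EB P y) ≠ 0 := Nat.card_pos.ne'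
  have hd0 : d ≠ 0 := fun h => hqb' (Nat.eq_zero_of_zero_dvd (h ▸ hd))
  have hdσ : d.factorization r ≤ σ := (Nat.factorization_le_iff_dvd hd0 hqb').2 hd r
  have hrhs0 : P.q b ^ (P.n / 2 - 1) * P.q (!b) ^ (P.n / 2) ≠ 0 := by positivity
  have hi0 : P.idx y y' ≠ 0 := fun h => by rw [h, zero_mul] at hcount; exact hrhs0 hcount.symm
  have hfac : (Nat.card (EB P y)).factorization r + d.factorization r = (P.n / 2 - 1) * τ + (P.n / 2) * σ := by
    have h3 := congrArg (fun k : ℕ => k.factorization r) hcount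
    beta_reduce at h3
    rw [hK, Nat.factorization_mul hi0 (mul_ne_zero hE0 hd0), Nat.factorization_mul hE0 hd0,
      Nat.factorization_mul (pow_ne_zero _ hqb) (pow_ne_zero _ hqb'), Nat.factorization_pow, Nat.factorization_pow] at h3
    simp only [Finsupp.coe_add, Pi.add_apply, Finsupp.coe_smul, Pi.smul_apply, smul_eq_mul, hidx, zero_add] at h3
    exact h3
  -- the chain
  have hfin := finite_nb P (p 1)
  have hStb : (Nat.card ↥(P.img (p 1) (P.S (p 2)))).factorization r = τ := by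
    have h3 := card_Stb F (v := y) hx hz hxz
    rw [hp1, hp2, h3, Nat.factorization_mul (by rw [hy]; exact hqb) ?_, hy]
    · simp [Nat.factorization_eq_zero_of_not_dvd h2, hτ]
    · intro h; exact h2 (h ▸ dvd_zero _)
  have hle : ∀ k, 3 + 2 * k ≤ P.n + 1 → (Nat.card ↥(P.img (p 1) (J P p 3 k))).factorization r ≤ τ := by
    intro k hk
    rw [← hStb]
    have h3 := (img_J_subnormal hp hk).1
    exact (Nat.factorization_le_iff_dvd Nat.card_pos.ne' Nat.card_pos.ne').2
      (Subgroup.card_dvd_of_le (img_mono (h3.trans inf_le_right))) r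
  have hfk : ∀ k, 3 + 2 * k ≤ P.n + 1 → (Nat.card ↥(J P p 3 k)).factorization r =
      (Nat.card ↥(P.img (p 1) (J P p 3 k))).factorization r + (Nat.card ↥(J P p 1 (k + 1))).factorization r := by
    intro k hk
    have h3 := card_img ((img_J_subnormal hp hk).1.trans inf_le_left)
    rw [J_inf_K hB hp hb] at h3
    rw [← h3, Nat.factorization_mul Nat.card_pos.ne' Nat.card_pos.ne']
    rfl
  have hsh : ∀ k, 3 + 2 * k ≤ P.n + 1 → (Nat.card ↥(J P p 1 k)).factorization r =
      (Nat.card ↥(J P p 3 k)).factorization r := by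
    intro k hk
    rw [← card_J_shift hp (a := 1) (k := k) (by omega)]
  have hend : (Nat.card ↥(J P p 1 (P.n / 2 - 1))).factorization r = 0 := by
    rw [J_eq_bot F hp, Subgroup.card_bot]
    simp
  have hE1 : (Nat.card (EB P y)).factorization r = (Nat.card ↥(J P p 1 0)).factorization r := by
    rw [J, hp1]
  have key : σ = 0 ∧ (Nat.card (EB P y)).factorization r = (P.n / 2 - 1) * τ ∧
      (Nat.card ↥(P.img (p 1) (J P p 3 (P.n / 2 - 2)))).factorization r = τ := by
    rcases P.hn with h | h | h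
    · have e0 := hfk 0 (by omega)
      have s0 := hsh 0 (by omega)
      have l0 := hle 0 (by omega)
      rw [h] at hend hfac ⊢
      norm_num at e0 hend hfac ⊢
      omega
    · have e0 := hfk 0 (by omega)
      have e1 := hfk 1 (by omega)
      have s0 := hsh 0 (by omega)
      have s1 := hsh 1 (by omega)
      have l0 := hle 0 (by omega)
      have l1 := hle 1 (by omega)
      rw [h] at hend hfac ⊢
      norm_num at e0 e1 hend hfac ⊢
      omega
    · have e0 := hfk 0 (by omega)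
      have e1 := hfk 1 (by omega)
      have e2 := hfk 2 (by omega)
      have s0 := hsh 0 (by omega)
      have s1 := hsh 1 (by omega)
      have s2 := hsh 2 (by omega)
      have l0 := hle 0 (by omega)
      have l1 := hle 1 (by omega)
      have l2 := hle 2 (by omega)
      rw [h] at hend hfac ⊢
      norm_num at e0 e1 e2 hend hfac ⊢
      omega
  obtain ⟨k1, k2, k3⟩ := key
  refine ⟨fun h => ?_, k2, ?_⟩
  · have := (hr.dvd_iff_one_le_factorization hqb').1 h
    omega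
  · have hsub := img_J_subnormal hp (k := P.n / 2 - 2) (by omega)
    have hse : ∀ g ∈ J P p 3 (P.n / 2 - 2), ∀ u, P.adj (p 1) u → u ≠ p 2 → g • u = u → g = 1 :=
      fun g hg u hu hne h => J_semireg F hp hg hu hne h
    clear_value τ σ
    subst hp1 hp2
    refine ⟨P.img (p 1) (J P p 3 (P.n / 2 - 2)), ?_, ?_, ?_, k3⟩
    · rw [← img_S hx]
      exact img_mono (hsub.1.trans inf_le_right)
    · rw [← img_S hx]
      exact hsub.2
    · rintro g hg ⟨u, hu⟩ hne hgu
      obtain ⟨a, ha, haJ, rfl⟩ := mem_img.1 hg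
      have h3 := hse a haJ u hu (fun h => hne (Subtype.ext h)) (congrArg Subtype.val hgu)
      subst h3
      exact map_one _

end Chain

end Cfsg.Agent.H263.TW
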