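import Cfsg.Agent.H482.Tab.Ppd
import Cfsg.Agent.H873.Tits.Stmts

/-!
# From an affine 2-transitive permutation group to a transitive linear group (helper263, S3414)
-/

set_option autoImplicit false
set_option linter.unusedSectionVars false
set_option linter.style.haveILetI false

namespace Cfsg.Agent.H263.TW

open Module Cfsg.Agent.H482.Tab Cfsg.Agent.H873.Tits

universe v

/-- The linear data of an affine 2-transitive group `L`, with respect to the point `a`. -/
theorem bridge {Ω : Type v} [Finite Ω] {L : Subgroup (Equiv.Perm Ω)} (hA : Aff L) (h2 : TwoTr L) {a b : Ω} (hab : a ≠ b) :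
    ∃ (r₀ : ℕ) (_ : Fact r₀.Prime) (V : Type v) (_ : AddCommGroup V) (_ : Module (ZMod r₀) V) (_ : Finite V)
      (φ : ↥(Stb L a) →* Module.End (ZMod r₀) V) (w₁ : V) (ι : V ≃ Ω),
      TL r₀ V ↥(Stb L a) φ w₁ ∧ ι 0 = a ∧ ι w₁ = b ∧ ∀ (g : ↥(Stb L a)) (v : V), ι (φ g v) = (g : Equiv.Perm Ω) (ι v) := by
  classical
  obtain ⟨W, hWL, hWn, hWc, hWt, hWs⟩ := hA
  have hconj : ∀ g ∈ L, ∀ w ∈ W, g * w * g⁻¹ ∈ W := by
    intro g hg w hw
    have := hWn.conj_mem ⟨w, hWL hw⟩ (Subgroup.mem_subgroupOf.2 hw) ⟨g, hg⟩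
    exact Subgroup.mem_subgroupOf.1 this
  have hreg : ∀ w ∈ W, ∀ w' ∈ W, w a = w' a → w = w' := by
    intro w hw w' hw' h
    have h1 : (⟨w'⁻¹ * w, W.mul_mem (W.inv_mem hw') hw⟩ : W) ∈ MulAction.stabilizer W a := by
      rw [MulAction.mem_stabilizer_iff]
      change (w'⁻¹ * w) a = a
      rw [Equiv.Perm.mul_apply, Equiv.Perm.inv_eq_iff_eq]
      exact h
    rw [hWs a, Subgroup.mem_bot] at h1
    have h2 := congrArg Subtype.val h1
    exact (inv_mul_eq_one.1 h2).symm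
  letI : CommGroup ↥W :=
    { (inferInstance : Group ↥W) with
      mul_comm := fun x y => hWc.is_comm.comm x y }
  let ι' : Additive ↥W ≃ Ω := Equiv.ofBijective (fun w => ((w.toMul : ↥W) : Equiv.Perm Ω) a) ⟨fun w w' h =>
    Additive.toMul.injective (Subtype.ext (hreg _ w.toMul.2 _ w'.toMul.2 h)), fun c => by
      obtain ⟨w, hw⟩ := hWt.exists_smul_eq a c
      exact ⟨Additive.ofMul w, hw⟩⟩
  have hι : ∀ w : Additive ↥W, ι' w = ((w.toMul : ↥W) : Equiv.Perm Ω) a := fun _ => rfl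
  have hfin : Finite (Additive ↥W) := inferInstanceAs (Finite ↥W)
  -- the action
  let f : ↥(Stb L a) → Additive ↥W →+ Additive ↥W := fun g =>
    { toFun := fun w => Additive.ofMul ⟨(g : Equiv.Perm Ω) * (w.toMul : ↥W) * (g : Equiv.Perm Ω)⁻¹,
        hconj g g.2.1 _ w.toMul.2⟩
      map_zero' := by
        apply Additive.toMul.injective
        apply Subtype.ext
        change (g : Equiv.Perm Ω) * 1 * (g : Equiv.Perm Ω)⁻¹ = 1
        group
      map_add' := by
        intro w w'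
        apply Additive.toMul.injective
        apply Subtype.ext
        change (g : Equiv.Perm Ω) * (((w.toMul : ↥W) : Equiv.Perm Ω) * (w'.toMul : ↥W)) * (g : Equiv.Perm Ω)⁻¹ =
          ((g : Equiv.Perm Ω) * (w.toMul : ↥W) * (g : Equiv.Perm Ω)⁻¹) *
            ((g : Equiv.Perm Ω) * (w'.toMul : ↥W) * (g : Equiv.Perm Ω)⁻¹)
        group }
  have hfι : ∀ (g : ↥(Stb L a)) (w : Additive ↥W), ι' (f g w) = (g : Equiv.Perm Ω) (ι' w) := by
    intro g w
    rw [hι, hι]
    change ((g : Equiv.Perm Ω) * (w.toMul : ↥W) * (g : Equiv.Perm Ω)⁻¹) a = _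
    rw [Equiv.Perm.mul_apply, Equiv.Perm.mul_apply]
    have : (g : Equiv.Perm Ω)⁻¹ a = a := by
      rw [Equiv.Perm.inv_eq_iff_eq]; exact g.2.2.symm
    rw [this]
  set w₁ : Additive ↥W := ι'.symm b with hw₁
  have hι0 : ι' 0 = a := rfl
  have hιb : ι' w₁ = b := ι'.apply_symm_apply b
  have hw₁0 : w₁ ≠ 0 := by
    intro h
    rw [h, hι0] at hιb
    exact hab hιb
  have htr : ∀ v w : Additive ↥W, v ≠ 0 → w ≠ 0 → ∃ g, f g v = w := by
    intro v w hv hw
    have h3 : a ≠ ι' v := fun h => hv (ι'.injective (h.symm.trans hι0.symm))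
    have h4 : a ≠ ι' w := fun h => hw (ι'.injective (h.symm.trans hι0.symm))
    obtain ⟨g, hg, hga, hgv⟩ := h2 a _ a _ h3 h4
    exact ⟨⟨g, hg, hga⟩, ι'.injective (by rw [hfι]; exact hgv)⟩
  -- the prime
  have hnt : Nontrivial (Additive ↥W) := ⟨⟨w₁, 0, hw₁0⟩⟩
  have hone : 1 < Nat.card (Additive ↥W) := Finite.one_lt_card
  obtain ⟨r₀, hr₀, hdvd⟩ := Nat.exists_prime_and_dvd hone.ne'
  have : Fact r₀.Prime := ⟨hr₀⟩
  obtain ⟨w₀, hw₀⟩ := exists_prime_addOrderOf_dvd_card' r₀ hdvd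
  have hw₀1 : w₀ ≠ 0 := by
    intro h
    rw [h, addOrderOf_zero] at hw₀
    exact hr₀.one_lt.ne hw₀
  have hexp : ∀ w : Additive ↥W, r₀ • w = 0 := by
    intro w
    by_cases hw : w = 0
    · rw [hw, smul_zero]
    obtain ⟨g, rfl⟩ := htr w₀ w hw₀1 hw
    rw [← map_nsmul, ← hw₀, addOrderOf_nsmul_eq_zero, map_zero]
  letI : Module (ZMod r₀) (Additive ↥W) := AddCommGroup.zmodModule (n := r₀) hexp
  let φ : ↥(Stb L a) →* Module.End (ZMod r₀) (Additive ↥W) :=
    { toFun := fun g => AddMonoidHom.toZModLinearMap r₀ (f g)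
      map_one' := by
        apply LinearMap.ext
        intro v
        rw [AddMonoidHom.coe_toZModLinearMap, Module.End.one_apply]
        apply ι'.injective
        rw [hfι]
        rfl
      map_mul' := by
        intro g h
        apply LinearMap.ext
        intro v
        rw [AddMonoidHom.coe_toZModLinearMap, Module.End.mul_apply, AddMonoidHom.coe_toZModLinearMap,
          AddMonoidHom.coe_toZModLinearMap]
        apply ι'.injective
        rw [hfι, hfι, hfι]
        rfl }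
  have hφ : ∀ g (v : Additive ↥W), φ g v = f g v := fun g v => rfl
  refine ⟨r₀, ⟨hr₀⟩, Additive ↥W, inferInstance, inferInstance, hfin, φ, w₁, ι', ⟨?_, ?_, hw₁0⟩, hι0, hιb, fun g v => by
    rw [hφ, hfι]⟩
  · intro g h hgh
    apply Subtype.ext
    apply Equiv.ext
    intro c
    obtain ⟨w, rfl⟩ := ι'.surjective c
    rw [← hfι, ← hfι, ← hφ, ← hφ, hgh]
  · intro v w hv hw
    obtain ⟨g, hg⟩ := htr v w hv hw
    exact ⟨g, hg⟩

end Cfsg.Agent.H263.TW
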