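import Cfsg.Agent.H263.TW.HerA

/-!
# Transitive linear groups with a semiregular subnormal subgroup: application of Hering's theorem
(helper263, S3414, case (B))
-/

set_option autoImplicit false
set_option linter.unusedSectionVars false
set_option linter.style.haveILetI false

namespace Cfsg.Agent.H263.TW

open Subgroup Cfsg Module Cfsg.Agent.H482.Tab Cfsg.Agent.SignalizersComponents

universe v w

/-- Hering's theorem over prime fields -/
def HerStmt : Prop := ∀ (r₀ : ℕ) [Fact r₀.Prime] (V : Type v) [AddCommGroup V] [Module (ZMod r₀) V] [Finite V]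
    (n : ℕ) (_ : Module.finrank (ZMod r₀) V = n) (_ : 1 ≤ n)
    (H : Subgroup (Equiv.Perm V)) (_ : ∀ h ∈ H, ∀ v w : V, h (v + w) = h v + h w)
    (_ : ∀ h ∈ H, ∃ σ : ZMod r₀ ≃+* ZMod r₀, ∀ (c : ZMod r₀) (v : V), h (c • v) = σ c • h v)
    (_ : ∀ v w : V, v ≠ 0 → w ≠ 0 → ∃ h ∈ H, ∃ c : ZMod r₀, h v = c • w),
    (∃ (a b : ℕ) (F : Type) (_ : Field F) (_ : Fintype F), a * b = n ∧ Fintype.card F = r₀ ^ b ∧
      ∃ N : Subgroup H, N.Normal ∧
        ((2 ≤ a ∧ Nonempty (N ≃* Matrix.SpecialLinearGroup (Fin a) F)) ∨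
         (∃ m : ℕ, a = 2 * m ∧ 1 ≤ m ∧ Nonempty (N ≃* Matrix.symplecticGroup (Fin m) F)) ∨
         (a = 6 ∧ r₀ % 2 = 0 ∧ 4 ≤ Fintype.card F ∧ Nonempty (N ≃* Cfsg.Lie.chevG2.group F)) ∨
         (a = 6 ∧ Fintype.card F = 2 ∧ ∃ (E : Type) (_ : Field E) (_ : Fintype E), Fintype.card E = 9 ∧ Nonempty (N ≃* Cfsg.PSU 3 E 3)))) ∨
    (∃ (F : Type) (_ : Field F) (_ : Fintype F) (e : V ≃+ F), Fintype.card F = r₀ ^ n ∧
      ∀ h ∈ H, ∃ (c : F) (σ : F ≃+* F), ∀ v : V, e (h v) = c * σ (e v)) ∨
    (n = 2 ∧ (r₀ = 5 ∨ r₀ = 7 ∨ r₀ = 11 ∨ r₀ = 23) ∧ ∃ N : Subgroup H, N.Normal ∧ Nonempty (N ≃* QuaternionGroup 2)) ∨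
    (n = 2 ∧ (r₀ = 9 ∨ r₀ = 11 ∨ r₀ = 19 ∨ r₀ = 29 ∨ r₀ = 59) ∧
      ∃ N : Subgroup H, N.Normal ∧ Nonempty (N ≃* Matrix.SpecialLinearGroup (Fin 2) (ZMod 5))) ∨
    (n = 4 ∧ r₀ = 2 ∧ (Nonempty (H ≃* alternatingGroup (Fin 6)) ∨ Nonempty (H ≃* alternatingGroup (Fin 7)))) ∨
    (n = 4 ∧ r₀ = 3 ∧ ((∃ N : Subgroup H, N.Normal ∧ Nat.card N = 32 ∧ Nat.card H ∣ 32 * 120) ∨
      ∃ N : Subgroup H, N.Normal ∧ Nonempty (N ≃* Matrix.SpecialLinearGroup (Fin 2) (ZMod 5)))) ∨
    (n = 6 ∧ r₀ = 3 ∧ Nonempty (H ≃* Matrix.SpecialLinearGroup (Fin 2) (ZMod 13)))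

variable {r₀ : ℕ} [Fact r₀.Prime] {V : Type v} [AddCommGroup V] [Module (ZMod r₀) V] [Finite V]
variable {A : Type w} [Group A] [Finite A] {φ : A →* Module.End (ZMod r₀) V} {w₁ : V}

/-- the permutation representation -/
def pm (φ : A →* Module.End (ZMod r₀) V) : A →* Equiv.Perm V :=
  let _ := act φ
  MulAction.toPermHom A V

theorem pm_apply (φ : A →* Module.End (ZMod r₀) V) (g : A) (v : V) : pm φ g v = φ g v := rfl

theorem pm_inj (H : TL r₀ V A φ w₁) : Function.Injective (pm φ) := by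
  intro g h hgh
  apply H.inj
  apply LinearMap.ext
  intro v
  rw [← pm_apply, hgh, pm_apply]

/-- the one-dimensional semilinear case -/
theorem stab_dvd_of_semi (H : TL r₀ V A φ w₁) {n : ℕ} (hn : 1 ≤ n) {F : Type*} [Field F] [Fintype F] (e : V ≃+ F)
    (hF : Fintype.card F = r₀ ^ n) (h : ∀ g : A, ∃ (c : F) (σ : F ≃+* F), ∀ v : V, e (φ g v) = c * σ (e v)) :
    Nat.card (stab φ w₁) ∣ n := by
  choose c σ hσ using h
  have hc : ∀ g, c g ≠ 0 := by
    intro g hg
    have h1 := hσ g (φ g⁻¹ w₁)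
    rw [apply_inv, hg, zero_mul] at h1
    exact H.ne (by rw [← e.map_eq_zero_iff]; exact h1)
  have hc1 : ∀ g, c g = e (φ g (e.symm 1)) := by
    intro g
    rw [hσ, e.apply_symm_apply, map_one, mul_one]
  have hs1 : ∀ g x, c g * σ g x = e (φ g (e.symm x)) := by
    intro g x
    rw [hσ, e.apply_symm_apply]
  have hmul : ∀ g h, σ (g * h) = σ g * σ h := by
    intro g h
    have h1 : ∀ x, c (g * h) * σ (g * h) x = c g * σ g (c h) * σ g (σ h x) := by
      intro x
      rw [hs1, map_mul, Module.End.mul_apply, hσ g, hσ h, e.apply_symm_apply, map_mul, mul_assoc]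
    have h2 : c (g * h) = c g * σ g (c h) := by
      have := h1 1
      simpa using this
    ext x
    have h3 := h1 x
    rw [h2] at h3
    exact mul_left_cancel₀ (mul_ne_zero (hc g) (by simpa using hc h)) h3
  have hone : σ 1 = 1 := by
    have := hmul 1 1
    rw [mul_one] at this
    exact (mul_eq_left.1 this.symm)
  let ψ : stab φ w₁ →* (F ≃+* F) :=
    { toFun := fun g => σ g
      map_one' := hone
      map_mul' := fun g h => hmul g h }
  have hψ : Function.Injective ψ := by
    rw [injective_iff_map_eq_one]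
    intro g hg
    have h1 : σ g = 1 := hg
    have h2 := hσ g w₁
    rw [show φ (g : A) w₁ = w₁ from g.2, h1] at h2
    have h3 : c g = 1 := by
      have h4 : c g * e w₁ = 1 * e w₁ := by rw [one_mul]; exact h2.symm
      exact mul_right_cancel₀ (fun h => H.ne (by rw [← e.map_eq_zero_iff]; exact h)) h4
    apply Subtype.ext
    apply H.inj
    apply LinearMap.ext
    intro v
    apply e.injective
    rw [hσ, h1, h3, one_mul, Subgroup.coe_one, map_one]
    rfl
  rw [← Cfsg.Agent.Lib.FieldAutCard.card_ringAut hn hF]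
  exact Subgroup.card_dvd_of_injective ψ hψ

theorem alt_simple {m : ℕ} (hm : 5 ≤ m) :
    IsSimpleGroup (alternatingGroup (Fin m)) ∧ ¬ IsMulCommutative (alternatingGroup (Fin m)) := by
  have h5 : 5 ≤ Nat.card (Fin m) := by rw [Nat.card_eq_fintype_card, Fintype.card_fin]; exact hm
  have hs : IsSimpleGroup (alternatingGroup (Fin m)) := alternatingGroup.isSimpleGroup h5
  refine ⟨hs, fun h => ?_⟩
  have h1 := commutator_alternatingGroup_eq_self h5
  have h2 : (alternatingGroup (Fin m)) = ⊥ := by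
    rw [← h1, eq_bot_iff, Subgroup.commutator_le]
    intro a ha b hb
    rw [Subgroup.mem_bot, commutatorElement_eq_one_iff_mul_comm]
    exact congrArg Subtype.val (h.is_comm.comm (⟨a, ha⟩ : alternatingGroup (Fin m)) ⟨b, hb⟩)
  have h3 := hs.toNontrivial
  rw [h2] at h3
  exact not_subsingleton (⊥ : Subgroup (Equiv.Perm (Fin m))) inferInstance

theorem herM (hH : HerStmt.{v}) (H : TL r₀ V A φ w₁) {e : ℕ} (he : finrank (ZMod r₀) V = e) (he3 : 3 ≤ e)
    {r : ℕ} (hr : r.Prime) (hrd : ∀ m, r ∣ r₀ ^ m - 1 ↔ e ∣ m) {M : Subgroup A} (hM : M.IsSubnormal)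
    (hMc : Nat.card M ∣ Nat.card V - 1)
    (hMr : (Nat.card M).factorization r = (Nat.card A).factorization r) :
    Nat.card (stab φ w₁) ∣ e ∨ (r₀ = 3 ∧ e = 4 ∧ Nat.card (stab φ w₁) ∣ 48) := by
  classical
  have hr₀ : r₀.Prime := Fact.out
  have hrdvd : r ∣ r₀ ^ e - 1 := (hrd e).2 dvd_rfl
  have hrnot : ∀ m, 0 < m → m < e → ¬ r ∣ r₀ ^ m - 1 := fun m h0 h1 h2 =>
    absurd (Nat.le_of_dvd h0 ((hrd m).1 h2)) (by omega)
  have hr2 : r ≠ 2 := by
    rintro rfl
    have h1 := hrnot 1 one_pos (by omega)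
    rw [pow_one] at h1
    have h2 : r₀ = 2 := by
      rcases hr₀.eq_two_or_odd with h | h
      · exact h
      · exact absurd ⟨r₀ / 2, by omega⟩ h1
    rw [h2] at hrdvd
    have h3 : 2 ∣ 2 ^ e := dvd_pow_self 2 (by omega)
    have h4 : 1 ≤ 2 ^ e := Nat.one_le_pow _ _ two_pos
    omega
  have h0 : ¬ r₀ ∣ Nat.card M := by
    intro h1
    have h2 := h1.trans hMc
    rw [card_V (r₀ := r₀) (V := V), he] at h2
    have h3 : r₀ ∣ r₀ ^ e := dvd_pow_self _ (by omega)
    have h4 : 1 ≤ r₀ ^ e := Nat.one_le_pow _ _ hr₀.pos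
    have h5 := Nat.dvd_sub h3 h2
    rw [Nat.sub_sub_self h4] at h5
    exact hr₀.one_lt.ne' (Nat.dvd_one.1 h5)
  -- the group of permutations
  set f := pm φ with hf
  let ε : A ≃* f.range := MonoidHom.ofInjective (pm_inj H)
  have key : ∀ N : Subgroup f.range, N.Normal → Big r r₀ N → False := by
    intro N hN hB
    refine no_big hr (N := N.map ε.symm.toMonoidHom) hM (hN.map _ ε.symm.surjective) (hB.congr (ε.symm.subgroupMap N)) hMr h0
  have keyT : Big r r₀ f.range → False := fun hB => key ⊤ inferInstance (big_top hB)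
  -- Hering's theorem
  have hh := hH r₀ V e he (by omega) f.range
    (by
      rintro _ ⟨g, rfl⟩ v w
      exact map_add (φ g) v w)
    (by
      rintro _ ⟨g, rfl⟩
      exact ⟨RingEquiv.refl _, fun c v => map_smul (φ g) c v⟩)
    (by
      intro v w hv hw
      obtain ⟨g, hg⟩ := H.tr v w hv hw
      exact ⟨f g, ⟨g, rfl⟩, 1, by rw [one_smul]; exact hg⟩)
  rcases hh with ⟨a, b, F, _, _, hab, hF, N, hN, hrow⟩ | ⟨F, _, _, i, hF, hsl⟩ | ⟨h, -⟩ | ⟨h, -⟩ | ⟨h4, h2, hrow⟩ |
    ⟨h4, h3, hrow⟩ | ⟨h6, h3, ⟨i⟩⟩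
  · exfalso
    have hb : b ≠ 0 := by rintro rfl; omega
    have ha : a ≠ 0 := by rintro rfl; omega
    have hpow : (r₀ ^ b) ^ a = r₀ ^ e := by rw [← pow_mul, mul_comm, hab]
    rcases hrow with ⟨ha2, ⟨i⟩⟩ | ⟨m, ham, hm, ⟨i⟩⟩ | ⟨ha6, h2, h4, ⟨i⟩⟩ | ⟨ha6, h2, E, _, _, hE, ⟨i⟩⟩
    · -- linear
      refine key N hN ((big_sl hr ha2 hF hb ?_ (by rw [hpow]; exact hrdvd) ?_).congr i.symm)
      · rintro ⟨rfl, h3⟩
        have hb2 : 2 ≤ b := by omega
        have h5 : 2 ^ 2 ≤ r₀ ^ b := (Nat.pow_le_pow_left hr₀.two_le 2).trans (Nat.pow_le_pow_right hr₀.pos hb2)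
        rw [hF] at h3
        omega
      · rintro ⟨-, h3⟩
        refine hrnot b (by omega) ?_ h3
        rw [← hab]
        nlinarith [Nat.pos_of_ne_zero hb]
    · -- symplectic
      by_cases hs2 : m = 2 ∧ Fintype.card F = 2
      · obtain ⟨rfl, hF2⟩ := hs2
        rw [hF2] at hF
        have hb1 : b = 1 := by
          by_contra hb1
          have hb2 : 2 ≤ b := by omega
          have h5 : 2 ^ 2 ≤ r₀ ^ b := (Nat.pow_le_pow_left hr₀.two_le 2).trans (Nat.pow_le_pow_right hr₀.pos hb2)
          omega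
        rw [hb1, pow_one] at hF
        have he4 : e = 4 := by rw [← hab, hb1, ham]
        subst hb1 he4
        rw [← hF] at hrdvd
        obtain ⟨j⟩ := Cfsg.Agent.LieClassical.SpFourTwo.nonempty_equiv_perm hF2
        -- the commutator subgroup
        have h5 : 5 ≤ Nat.card (Fin 6) := by rw [Nat.card_eq_fintype_card, Fintype.card_fin]; norm_num
        have i2 : N ≃* Equiv.Perm (Fin 6) := i.trans j
        have hmap : (commutator N).map i2.toMonoidHom = alternatingGroup (Fin 6) := by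
          rw [commutator_def, Subgroup.map_commutator]
          have : (⊤ : Subgroup N).map i2.toMonoidHom = ⊤ := Subgroup.map_top_of_surjective _ i2.surjective
          rw [this, ← commutator_def, alternatingGroup.commutator_perm_eq h5]
        have i3 : commutator N ≃* alternatingGroup (Fin 6) :=
          (i2.subgroupMap (commutator N)).trans (MulEquiv.subgroupCongr hmap)
        have i4 : commutator N ≃* (commutator N).map N.subtype :=
          (commutator N).equivMapOfInjective _ N.subtype_injective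
        have hcard : Nat.card (alternatingGroup (Fin 6)) = 360 := by
          have := two_mul_nat_card_alternatingGroup (α := Fin 6)
          rw [Nat.card_perm, Nat.card_eq_fintype_card (α := Fin 6), Fintype.card_fin] at this
          have h6 : Nat.factorial 6 = 720 := rfl
          omega
        have hr5 : r ∣ 360 := by
          have h15 : r ∣ 15 := by simpa using hrdvd
          exact h15.trans (by norm_num)
        refine key _ ?_ (((big_simple (alt_simple (m := 6) (by norm_num)).1 (alt_simple (m := 6) (by norm_num)).2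
          (by rw [hcard]; exact hr5) (by rw [hcard, ← hF]; norm_num) hr).congr i3.symm).congr i4)
        exact ConjAct.normal_of_characteristic_of_normal
      · refine key N hN ((big_sp hr hr2 hm hF hb ?_ hs2 (by rw [← ham, hpow]; exact hrdvd)).congr i.symm)
        rintro ⟨rfl, h3⟩
        have hb2 : 2 ≤ b := by
          rw [ham] at hab
          omega
        have h5 : 2 ^ 2 ≤ r₀ ^ b := (Nat.pow_le_pow_left hr₀.two_le 2).trans (Nat.pow_le_pow_right hr₀.pos hb2)
        rw [hF] at h3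
        omega
    · -- G₂
      subst ha6
      have hcard := S1059.result (F := F) hF
      obtain ⟨hs, hna⟩ := S1055.result (F := F) (by
        obtain ⟨x, hx⟩ : ∃ x : F, x ∉ ({0, 1} : Finset F) := by
          by_contra hcon
          push Not at hcon
          have h5 : Fintype.card F ≤ ({0, 1} : Finset F).card := by
            rw [← Finset.card_univ]
            exact Finset.card_le_card (fun x _ => hcon x)
          have h6 := Finset.card_le_two (a := (0 : F)) (b := 1)
          omega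
        refine ⟨x, ?_, ?_⟩ <;> · rintro rfl; simp at hx)
      refine key N hN ((big_simple hs hna (by rw [hcard, hpow]; exact hrdvd.mul_left _) ?_ hr).congr i.symm)
      rw [hcard, mul_assoc]
      refine Dvd.dvd.mul_right ?_ _
      rw [← pow_mul]
      exact dvd_pow_self _ (by omega)
    · -- U₃(3)
      subst ha6
      rw [h2] at hF
      have hb1 : b = 1 := by
        by_contra hb1
        have hb2 : 2 ≤ b := by omega
        have h5 : 2 ^ 2 ≤ r₀ ^ b := (Nat.pow_le_pow_left hr₀.two_le 2).trans (Nat.pow_le_pow_right hr₀.pos hb2)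
        omega
      rw [hb1, pow_one] at hF
      subst hb1
      rw [← hF, ← hab] at hrdvd
      have hs := S0283.result (F := E) (q := 3) (by rw [hE]; norm_num) 3 le_rfl (by norm_num)
      have hcard := Cfsg.Agent.SmallSimple.PSLFacts.card_psu_three_three hE
      have hna : ¬ IsMulCommutative (Cfsg.PSU 3 E 3) := by
        intro h
        have : IsSimpleGroup (Cfsg.PSU 3 E 3) := hs
        let _ : CommGroup (Cfsg.PSU 3 E 3) := { (inferInstance : Group (Cfsg.PSU 3 E 3)) with mul_comm := h.is_comm.comm }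
        have : Finite (Cfsg.PSU 3 E 3) := Nat.finite_of_card_ne_zero (by rw [hcard]; norm_num)
        have h7 := IsSimpleGroup.prime_card (α := Cfsg.PSU 3 E 3)
        rw [hcard] at h7
        exact absurd h7 (by norm_num)
      refine key N hN ((big_simple hs hna (by rw [hcard]; exact (show r ∣ 63 by simpa using hrdvd).trans (by norm_num))
        (by rw [hcard, ← hF]; norm_num) hr).congr i.symm)
  · left
    exact stab_dvd_of_semi H (by omega) i hF (fun g => hsl (f g) ⟨g, rfl⟩)
  · omega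
  · omega
  · exfalso
    subst h2 h4
    have h15 : r ∣ 15 := by simpa using hrdvd
    rcases hrow with ⟨⟨i⟩⟩ | ⟨⟨i⟩⟩
    · have hcard : Nat.card (alternatingGroup (Fin 6)) = 360 := by
        have := two_mul_nat_card_alternatingGroup (α := Fin 6)
        rw [Nat.card_perm, Nat.card_eq_fintype_card (α := Fin 6), Fintype.card_fin] at this
        have h6 : Nat.factorial 6 = 720 := rfl
        omega
      exact keyT ((big_simple (alt_simple (m := 6) (by norm_num)).1 (alt_simple (m := 6) (by norm_num)).2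
          (by rw [hcard]; exact h15.trans (by norm_num)) (by rw [hcard]; norm_num) hr).congr i.symm)
    · have hcard : Nat.card (alternatingGroup (Fin 7)) = 2520 := by
        have := two_mul_nat_card_alternatingGroup (α := Fin 7)
        rw [Nat.card_perm, Nat.card_eq_fintype_card (α := Fin 7), Fintype.card_fin] at this
        have h6 : Nat.factorial 7 = 5040 := rfl
        omega
      exact keyT ((big_simple (alt_simple (m := 7) (by norm_num)).1 (alt_simple (m := 7) (by norm_num)).2
          (by rw [hcard]; exact h15.trans (by norm_num)) (by rw [hcard]; norm_num) hr).congr i.symm)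
  · subst h3 h4
    have hr5 : r = 5 := by
      have h80 : r ∣ 80 := by simpa using hrdvd
      have h1 : r ≤ 80 := Nat.le_of_dvd (by norm_num) h80
      have h2 : r ∣ 2 ^ 4 * 5 := by simpa using h80
      rcases (Nat.Prime.dvd_mul hr).1 h2 with h | h
      · exact absurd ((Nat.prime_dvd_prime_iff_eq hr Nat.prime_two).1 (hr.dvd_of_dvd_pow h)) hr2
      · exact (Nat.prime_dvd_prime_iff_eq hr (by norm_num)).1 h
    rcases hrow with ⟨N, -, -, hd⟩ | ⟨N, hN, ⟨i⟩⟩
    · right
      refine ⟨rfl, rfl, ?_⟩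
      have h1 : Nat.card f.range = 80 * Nat.card (stab φ w₁) := by
        rw [← Nat.card_congr ε.toEquiv, H.card_A, card_V (r₀ := 3) (V := V), he]; norm_num
      rw [h1, show 32 * 120 = 80 * 48 from rfl] at hd
      exact Nat.dvd_of_mul_dvd_mul_left (by norm_num) hd
    · exfalso
      have : Fact (Nat.Prime 5) := ⟨Nat.prime_five⟩
      exact key N hN ((big_sl_two (F := ZMod 5) hr hr2 (ZMod.card 5) (by norm_num) (by rw [hr5]; norm_num)
        (by norm_num)).congr i.symm)
  · exfalso
    subst h3 h6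
    have : Fact (Nat.Prime 13) := ⟨by norm_num⟩
    have h728 : r ∣ 728 := by simpa using hrdvd
    have h2 : r ∣ 2 ^ 3 * 91 := by simpa using h728
    have h91 : r ∣ 91 := by
      rcases (Nat.Prime.dvd_mul hr).1 h2 with h | h
      · exact absurd ((Nat.prime_dvd_prime_iff_eq hr Nat.prime_two).1 (hr.dvd_of_dvd_pow h)) hr2
      · exact h
    exact keyT ((big_sl_two (F := ZMod 13) hr hr2 (ZMod.card 13) (by norm_num) (h91.trans (by norm_num))
        (by norm_num)).congr i.symm)

end Cfsg.Agent.H263.TW
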