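import Cfsg.Agent.H482.Tab.Ppd

/-!
# Abelian normal subgroups of transitive linear groups are cyclic and semiregular (helper263, S3414)
-/

set_option autoImplicit false
set_option linter.unusedSectionVars false

namespace Cfsg.Agent.H263.TW

open Module Cfsg.Agent.H482.Tab

section

variable {r₀ : ℕ} [Fact r₀.Prime] {V : Type*} [AddCommGroup V] [Module (ZMod r₀) V] [Finite V]
variable {A : Type*} [Group A] [Finite A] (φ : A →* Module.End (ZMod r₀) V)

/-- `U` is invariant under `X` -/
def Inv (X : Subgroup A) (U : Submodule (ZMod r₀) V) : Prop := ∀ g ∈ X, ∀ u ∈ U, φ g u ∈ U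

/-- `X` acts irreducibly -/
def Irr (X : Subgroup A) : Prop := ∀ U : Submodule (ZMod r₀) V, Inv φ X U → U = ⊥ ∨ U = ⊤

variable {φ}

/-- the elements commuting with an irreducible subgroup commute with each other -/
theorem comm_of_irr {X : Subgroup A} (hX : Irr φ X) {f g : Module.End (ZMod r₀) V}
    (hf : ∀ x ∈ X, φ x * f = f * φ x) (hg : ∀ x ∈ X, φ x * g = g * φ x) : f * g = g * f := by
  classical
  let R := Subring.centralizer ((fun x => φ x) '' (X : Set A))
  have : Finite (Module.End (ZMod r₀) V) := by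
    have : Finite (V → V) := Pi.finite
    exact Finite.of_injective (fun f : Module.End (ZMod r₀) V => (f : V → V)) DFunLike.coe_injective
  have hinj : ∀ f : R, f ≠ 0 → Function.Injective (f : Module.End (ZMod r₀) V) := by
    intro f hf0
    rw [← LinearMap.ker_eq_bot]
    rcases hX (LinearMap.ker (f : Module.End (ZMod r₀) V)) (by
      intro x hx u hu
      rw [LinearMap.mem_ker] at hu ⊢
      have h1 := (Subring.mem_centralizer_iff.1 f.2) (φ x) ⟨x, hx, rfl⟩
      have h2 : ((f : Module.End (ZMod r₀) V) * φ x) u = (φ x * (f : Module.End (ZMod r₀) V)) u := by rw [h1]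
      rw [Module.End.mul_apply, Module.End.mul_apply, hu, map_zero] at h2
      exact h2) with h | h
    · exact h
    · exact absurd (Subtype.ext (LinearMap.ker_eq_top.1 h)) hf0
  by_cases htriv : Subsingleton V
  · apply LinearMap.ext
    intro v
    exact Subsingleton.elim _ _
  have hnt : Nontrivial V := not_subsingleton_iff_nontrivial.1 htriv
  have : NoZeroDivisors R := by
    constructor
    intro a b hab
    by_cases ha : a = 0
    · exact Or.inl ha
    right
    apply Subtype.ext
    apply LinearMap.ext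
    intro v
    apply hinj a ha
    have h1 : ((a : Module.End (ZMod r₀) V) * (b : Module.End (ZMod r₀) V)) v = 0 := by
      have := congrArg Subtype.val hab
      change (a : Module.End (ZMod r₀) V) * (b : Module.End (ZMod r₀) V) = 0 at this
      rw [this]; rfl
    rw [Module.End.mul_apply] at h1
    rw [h1]
    exact (map_zero _).symm
  have : Nontrivial R := ⟨⟨0, 1, fun h => zero_ne_one (congrArg Subtype.val h)⟩⟩
  have : IsDomain R := NoZeroDivisors.to_isDomain R
  have hfield := Finite.isDomain_to_isField R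
  have h1 := hfield.mul_comm ⟨f, Subring.mem_centralizer_iff.2 (by rintro _ ⟨x, hx, rfl⟩; exact hf x hx)⟩
    ⟨g, Subring.mem_centralizer_iff.2 (by rintro _ ⟨x, hx, rfl⟩; exact hg x hx)⟩
  exact congrArg Subtype.val h1

/-- existence of a minimal invariant subspace -/
theorem exists_min (X : Subgroup A) {U₀ : Submodule (ZMod r₀) V} (h0 : U₀ ≠ ⊥) (hi : Inv φ X U₀) :
    ∃ U ≤ U₀, U ≠ ⊥ ∧ Inv φ X U ∧ ∀ W : Submodule (ZMod r₀) V, W ≤ U → Inv φ X W → W = ⊥ ∨ W = U := by
  classical
  have : Finite (Submodule (ZMod r₀) V) := Finite.of_injective (fun U => (U : Set V)) SetLike.coe_injective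
  obtain ⟨U, hU, hmin⟩ := (Set.toFinite {U : Submodule (ZMod r₀) V | U ≤ U₀ ∧ U ≠ ⊥ ∧ Inv φ X U}).exists_minimal
    ⟨U₀, le_rfl, h0, hi⟩
  refine ⟨U, hU.1, hU.2.1, hU.2.2, fun W hW hWi => ?_⟩
  by_cases hW0 : W = ⊥
  · exact Or.inl hW0
  · exact Or.inr (le_antisymm hW (hmin ⟨hW.trans hU.1, hW0, hWi⟩ hW))

variable {w₁ : V}

/-- **Abelian normal subgroups of transitive linear groups.** -/
theorem TLabelian (H : TL r₀ V A φ w₁) {D : Subgroup A} (hD : D.Normal) (hab : ∀ a ∈ D, ∀ c ∈ D, a * c = c * a) :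
    (∀ d ∈ D, ∀ v : V, v ≠ 0 → φ d v = v → d = 1) ∧ IsCyclic D := by
  classical
  have hmul : ∀ (g h : A) (v : V), φ (g * h) v = φ g (φ h v) := fun g h v => by rw [map_mul, Module.End.mul_apply]
  -- minimal invariant subspaces
  let Mi : Submodule (ZMod r₀) V → Prop := fun U => U ≠ ⊥ ∧ Inv φ D U ∧
    ∀ W : Submodule (ZMod r₀) V, W ≤ U → Inv φ D W → W = ⊥ ∨ W = U
  have htop : (⊤ : Submodule (ZMod r₀) V) ≠ ⊥ := by
    intro h
    apply H.ne
    have : w₁ ∈ (⊤ : Submodule (ZMod r₀) V) := Submodule.mem_top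
    rw [h] at this
    exact (Submodule.mem_bot _).1 this
  obtain ⟨U₀, -, hU₀⟩ := exists_min (φ := φ) D htop (fun _ _ _ _ => Submodule.mem_top)
  have hU₀' : Mi U₀ := hU₀
  -- translates
  have hinv : ∀ (a : A) (v : V), φ a⁻¹ (φ a v) = v := inv_apply φ
  have hinv' : ∀ (a : A) (v : V), φ a (φ a⁻¹ v) = v := apply_inv φ
  have hcomap : ∀ (a : A) (U : Submodule (ZMod r₀) V), Inv φ D U → Inv φ D (U.comap (φ a)) := by
    intro a U hU g hg u hu
    rw [Submodule.mem_comap] at hu ⊢
    have h1 := hU (a * g * a⁻¹) (hD.conj_mem g hg a) _ hu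
    rw [← hmul] at h1 ⊢
    rwa [show a * g * a⁻¹ * a = a * g by group] at h1
  have hMi : ∀ (a : A) (U : Submodule (ZMod r₀) V), Mi U → Mi (U.comap (φ a)) := by
    intro a U hU
    refine ⟨?_, hcomap a U hU.2.1, ?_⟩
    · intro h
      apply hU.1
      rw [eq_bot_iff]
      intro u hu
      have h1 : φ a⁻¹ u ∈ U.comap (φ a) := by rw [Submodule.mem_comap, hinv']; exact hu
      rw [h, Submodule.mem_bot] at h1
      rw [Submodule.mem_bot, ← hinv' a u, h1, map_zero]
    · intro W hW hWi
      have h1 : W.comap (φ a⁻¹) ≤ U := by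
        intro u hu
        have := hW hu
        rw [Submodule.mem_comap, hinv'] at this
        exact this
      rcases hU.2.2 _ h1 (hcomap a⁻¹ W hWi) with h | h
      · left
        rw [eq_bot_iff]
        intro w hw
        have h2 : φ a w ∈ W.comap (φ a⁻¹) := by rw [Submodule.mem_comap, hinv]; exact hw
        rw [h, Submodule.mem_bot] at h2
        rw [Submodule.mem_bot, ← hinv a w, h2, map_zero]
      · right
        refine le_antisymm hW fun w hw => ?_
        rw [Submodule.mem_comap, ← h, Submodule.mem_comap, hinv] at hw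
        exact hw
  -- every vector lies in a minimal invariant subspace which is a translate
  obtain ⟨u₀, hu₀, hu₀0⟩ := (Submodule.ne_bot_iff _).1 hU₀.1
  have hcov : ∀ v : V, v ≠ 0 → ∃ a : A, v ∈ U₀.comap (φ a) := by
    intro v hv
    obtain ⟨a, ha⟩ := H.tr v u₀ hv hu₀0
    exact ⟨a, by rw [Submodule.mem_comap, ha]; exact hu₀⟩
  -- the kernels
  let ker : Submodule (ZMod r₀) V → Subgroup A := fun U =>
    { carrier := {d | d ∈ D ∧ ∀ u ∈ U, φ d u = u}
      one_mem' := ⟨D.one_mem, fun u _ => by rw [map_one]; rfl⟩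
      mul_mem' := by
        rintro a b ⟨ha, ha'⟩ ⟨hb, hb'⟩
        exact ⟨D.mul_mem ha hb, fun u hu => by rw [hmul, hb' u hu, ha' u hu]⟩
      inv_mem' := by
        rintro a ⟨ha, ha'⟩
        exact ⟨D.inv_mem ha, fun u hu => by
          have := hinv a u
          rwa [ha' u hu] at this⟩ }
  have hker_card : ∀ a : A, Nat.card (ker (U₀.comap (φ a))) = Nat.card (ker U₀) := by
    intro a
    have h1 : ker (U₀.comap (φ a)) = (ker U₀).map (MulAut.conj a⁻¹).toMonoidHom := by
      ext d
      rw [Subgroup.mem_map_equiv, MulAut.conj_symm_apply, inv_inv]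
      constructor
      · rintro ⟨h2, h3⟩
        refine ⟨hD.conj_mem d h2 a, fun u hu => ?_⟩
        rw [hmul, hmul, h3 _ (by rw [Submodule.mem_comap, hinv']; exact hu), hinv']
      · rintro ⟨h2, h3⟩
        refine ⟨?_, fun u hu => ?_⟩
        · have := hD.conj_mem _ h2 a⁻¹
          rwa [show a⁻¹ * (a * d * a⁻¹) * a⁻¹⁻¹ = d by group] at this
        · have h4 := h3 _ (Submodule.mem_comap.1 hu)
          rw [← hmul, show a * d * a⁻¹ * a = a * d by group, hmul] at h4
          have h5 := congrArg (φ a⁻¹) h4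
          rwa [hinv, hinv] at h5
    rw [h1]
    exact (Nat.card_congr ((ker U₀).equivMapOfInjective _ (MulAut.conj a⁻¹).injective).toEquiv).symm
  -- an element of `D` fixing a nonzero vector of a minimal subspace acts trivially on it
  have hfix : ∀ U, Mi U → ∀ d ∈ D, ∀ u ∈ U, u ≠ 0 → φ d u = u → d ∈ ker U := by
    intro U hU d hd u hu hu0 hdu
    rcases hU.2.2 (U ⊓ LinearMap.ker (φ d - 1)) inf_le_left (by
      intro g hg w hw
      refine ⟨hU.2.1 g hg w hw.1, ?_⟩
      have h1 : φ d w = w := by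
        have := hw.2
        rwa [SetLike.mem_coe, LinearMap.mem_ker, LinearMap.sub_apply, sub_eq_zero] at this
      change φ g w ∈ LinearMap.ker (φ d - 1)
      rw [LinearMap.mem_ker, LinearMap.sub_apply, sub_eq_zero, ← hmul, hab d hd g hg, hmul, h1]
      rfl) with h | h
    · exfalso
      have h1 : u ∈ U ⊓ LinearMap.ker (φ d - 1) := by
        refine ⟨hu, ?_⟩
        change u ∈ LinearMap.ker (φ d - 1)
        rw [LinearMap.mem_ker, LinearMap.sub_apply, sub_eq_zero, hdu]
        rfl
      rw [h, Submodule.mem_bot] at h1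
      exact hu0 h1
    · refine ⟨hd, fun w hw => ?_⟩
      have h1 : w ∈ U ⊓ LinearMap.ker (φ d - 1) := by rw [h]; exact hw
      have h2 : w ∈ LinearMap.ker (φ d - 1) := h1.2
      rw [LinearMap.mem_ker, LinearMap.sub_apply, sub_eq_zero] at h2
      exact h2
  -- all kernels agree
  have hkk : ∀ a c : A, ker (U₀.comap (φ a)) = ker (U₀.comap (φ c)) := by
    intro a c
    set U₁ := U₀.comap (φ a) with hU₁
    set U₂ := U₀.comap (φ c) with hU₂
    have hM1 : Mi U₁ := hMi a U₀ hU₀'
    have hM2 : Mi U₂ := hMi c U₀ hU₀'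
    by_cases h12 : U₁ = U₂
    · rw [h12]
    have hdis : ∀ v, v ∈ U₁ → v ∈ U₂ → v = 0 := by
      have h3 : Inv φ D (U₁ ⊓ U₂) := fun g hg w hw => ⟨hM1.2.1 g hg w hw.1, hM2.2.1 g hg w hw.2⟩
      rcases hM1.2.2 (U₁ ⊓ U₂) inf_le_left h3 with h | h
      · intro v hv hv'
        have : v ∈ U₁ ⊓ U₂ := ⟨hv, hv'⟩
        rw [h] at this
        exact (Submodule.mem_bot _).1 this
      · exfalso
        rcases hM2.2.2 (U₁ ⊓ U₂) inf_le_right h3 with h' | h'
        · exact hM1.1 (h.symm.trans h')
        · exact h12 (h.symm.trans h')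
    obtain ⟨u₁, hu₁, hu₁0⟩ := (Submodule.ne_bot_iff _).1 hM1.1
    obtain ⟨u₂, hu₂, hu₂0⟩ := (Submodule.ne_bot_iff _).1 hM2.1
    have hne : u₁ + u₂ ≠ 0 := by
      intro h
      have h3 : u₁ ∈ U₂ := by
        rw [add_eq_zero_iff_eq_neg.1 h]
        exact U₂.neg_mem hu₂
      exact hu₁0 (hdis u₁ hu₁ h3)
    obtain ⟨e, he⟩ := hcov _ hne
    have hle : ker (U₀.comap (φ e)) ≤ ker U₁ ∧ ker (U₀.comap (φ e)) ≤ ker U₂ := by
      have key : ∀ d ∈ ker (U₀.comap (φ e)), φ d u₁ = u₁ ∧ φ d u₂ = u₂ := by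
        intro d hd
        have h3 := hd.2 _ he
        rw [map_add] at h3
        have h4 : φ d u₁ - u₁ = u₂ - φ d u₂ := by
          rw [sub_eq_sub_iff_add_eq_add, h3, add_comm]
        have h5 : φ d u₁ - u₁ = 0 := by
          apply hdis
          · exact U₁.sub_mem (hM1.2.1 d hd.1 _ hu₁) hu₁
          · rw [h4]
            exact U₂.sub_mem hu₂ (hM2.2.1 d hd.1 _ hu₂)
        have h6 := h5
        rw [h4] at h6
        exact ⟨sub_eq_zero.1 h5, (sub_eq_zero.1 h6).symm⟩
      exact ⟨fun d hd => hfix U₁ hM1 d hd.1 u₁ hu₁ hu₁0 (key d hd).1,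
        fun d hd => hfix U₂ hM2 d hd.1 u₂ hu₂ hu₂0 (key d hd).2⟩
    have e1 := Subgroup.eq_of_le_of_card_ge hle.1 (by rw [hU₁]; exact le_of_eq ((hker_card a).trans (hker_card e).symm))
    have e2 := Subgroup.eq_of_le_of_card_ge hle.2 (by rw [hU₂]; exact le_of_eq ((hker_card c).trans (hker_card e).symm))
    rw [← e1, ← e2]
  have hker_bot : ker U₀ = ⊥ := by
    rw [eq_bot_iff]
    intro d hd
    rw [Subgroup.mem_bot]
    apply H.inj
    rw [map_one]
    apply LinearMap.ext
    intro v
    change φ d v = v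
    by_cases hv : v = 0
    · rw [hv, map_zero]
    obtain ⟨a, ha⟩ := hcov v hv
    have h1 : U₀ = U₀.comap (φ 1) := by rw [map_one]; exact (Submodule.comap_id _).symm
    have h2 : d ∈ ker (U₀.comap (φ a)) := by rw [hkk a 1, ← h1]; exact hd
    exact h2.2 v ha
  have hsr : ∀ d ∈ D, ∀ v : V, v ≠ 0 → φ d v = v → d = 1 := by
    intro d hd v hv hdv
    obtain ⟨a, ha⟩ := hcov v hv
    have h1 := hfix _ (hMi a U₀ hU₀') d hd v ha hv hdv
    have h2 : U₀ = U₀.comap (φ 1) := by rw [map_one]; exact (Submodule.comap_id _).symm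
    rw [hkk a 1, ← h2, hker_bot, Subgroup.mem_bot] at h1
    exact h1
  refine ⟨hsr, ?_⟩
  -- cyclic: embed in the units of a field
  let φU : D →* Module.End (ZMod r₀) U₀ :=
    { toFun := fun d => (φ (d : A)).restrict (fun u hu => hU₀.2.1 d d.2 u hu)
      map_one' := by
        apply LinearMap.ext
        intro u
        apply Subtype.ext
        rw [LinearMap.coe_restrict_apply, Subgroup.coe_one, map_one]
        rfl
      map_mul' := by
        intro c d
        apply LinearMap.ext
        intro u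
        apply Subtype.ext
        rw [LinearMap.coe_restrict_apply, Subgroup.coe_mul, hmul]
        rfl }
  have hφU : ∀ (d : D) (u : U₀), ((φU d u : U₀) : V) = φ (d : A) (u : V) := fun _ _ => rfl
  let R := Algebra.adjoin (ZMod r₀) (Set.range φU)
  have hRcomm : ∀ f ∈ R, ∀ d : D, f * φU d = φU d * f := by
    intro f hf d
    induction hf using Algebra.adjoin_induction with
    | mem x hx =>
      obtain ⟨c, rfl⟩ := hx
      rw [← map_mul, ← map_mul]
      congr 1
      exact Subtype.ext (hab c c.2 d d.2)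
    | algebraMap k => exact Algebra.commutes k _
    | add x y _ _ hx hy => rw [add_mul, mul_add, hx, hy]
    | mul x y _ _ hx hy => rw [mul_assoc, hy, ← mul_assoc, hx, mul_assoc]
  have hRR : ∀ f ∈ R, ∀ g ∈ R, f * g = g * f := by
    intro f hf g hg
    induction hg using Algebra.adjoin_induction with
    | mem x hx =>
      obtain ⟨c, rfl⟩ := hx
      exact hRcomm f hf c
    | algebraMap k => exact (Algebra.commutes k _).symm
    | add x y _ _ hx hy => rw [add_mul, mul_add, hx, hy]
    | mul x y _ _ hx hy => rw [← mul_assoc, hx, mul_assoc, hy, ← mul_assoc]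
  have hRinj : ∀ f ∈ R, f ≠ 0 → Function.Injective f := by
    intro f hf hf0
    rw [← LinearMap.ker_eq_bot]
    rcases hU₀.2.2 ((LinearMap.ker f).map U₀.subtype) (Submodule.map_subtype_le _ _) (by
      rintro g hg _ ⟨u, hu, rfl⟩
      refine ⟨φU ⟨g, hg⟩ u, ?_, rfl⟩
      change φU ⟨g, hg⟩ u ∈ LinearMap.ker f
      rw [LinearMap.mem_ker]
      have h1 : (f * φU ⟨g, hg⟩) u = (φU ⟨g, hg⟩ * f) u := by rw [hRcomm f hf]
      rw [Module.End.mul_apply, Module.End.mul_apply, show f u = 0 from hu, map_zero] at h1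
      exact h1) with h | h
    · exact Submodule.map_injective_of_injective (Submodule.injective_subtype _)
        (h.trans (Submodule.map_bot _).symm)
    · exfalso
      apply hf0
      rw [← LinearMap.ker_eq_top, eq_top_iff]
      intro u _
      have h1 : (u : V) ∈ (LinearMap.ker f).map U₀.subtype := by rw [h]; exact u.2
      obtain ⟨w, hw, hwu⟩ := h1
      rwa [show w = u from Subtype.ext hwu] at hw
  let _ : CommRing R :=
    { (inferInstance : Ring R) with
      mul_comm := fun x y => Subtype.ext (hRR x x.2 y y.2) }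
  have hntU : Nontrivial U₀ := ⟨⟨u₀, hu₀⟩, 0, fun h => hu₀0 (congrArg Subtype.val h)⟩
  have : NoZeroDivisors R := by
    constructor
    intro a b hab'
    by_cases ha : a = 0
    · exact Or.inl ha
    right
    apply Subtype.ext
    apply LinearMap.ext
    intro v
    apply hRinj a a.2 (fun h => ha (Subtype.ext h))
    have h1 : ((a : Module.End (ZMod r₀) U₀) * (b : Module.End (ZMod r₀) U₀)) v = 0 := by
      have := congrArg Subtype.val hab'
      change (a : Module.End (ZMod r₀) U₀) * (b : Module.End (ZMod r₀) U₀) = 0 at this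
      rw [this]; rfl
    rw [Module.End.mul_apply] at h1
    rw [h1]
    exact (map_zero _).symm
  have : Nontrivial R := ⟨⟨0, 1, fun h => zero_ne_one (congrArg Subtype.val h)⟩⟩
  have : IsDomain R := NoZeroDivisors.to_isDomain R
  let ψ : D →* R :=
    { toFun := fun d => ⟨φU d, Algebra.subset_adjoin ⟨d, rfl⟩⟩
      map_one' := Subtype.ext (map_one φU)
      map_mul' := fun c d => Subtype.ext (map_mul φU c d) }
  refine isCyclic_of_injective_ringHom ψ ?_
  rw [injective_iff_map_eq_one]
  intro d hd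
  apply Subtype.ext
  refine hsr d d.2 u₀ hu₀0 ?_
  have h1 : φU d = 1 := congrArg Subtype.val hd
  rw [← hφU d ⟨u₀, hu₀⟩, h1]
  rfl

end

end Cfsg.Agent.H263.TW
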