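import Cfsg.Agent.H263.TW.Chain
import Cfsg.Agent.H263.TW.Lin
import Cfsg.Agent.H23.FreeAct
import Cfsg.Agent.H115.Tits.Kill

/-!
# S3414, case (B), affine: generalized quadrangles (helper263)
-/

set_option autoImplicit false
set_option linter.unusedSectionVars false
set_option linter.style.haveILetI false

namespace Cfsg.Agent.H263.TW

open Subgroup Module Cfsg.Agent.H482.Tab Cfsg.Agent.H873.Tits

universe u v w

/-! ### linear algebra -/

section Lin

variable {r₀ : ℕ} [Fact r₀.Prime] {W : Type w} [AddCommGroup W] [Module (ZMod r₀) W] [Finite W]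
variable {A : Type*} [Group A] [Finite A] {φ : A →* Module.End (ZMod r₀) W} {w₁ : W}

theorem fpf_dvd {X : Subgroup A} (hX : ∀ g ∈ X, ∀ u : W, u ≠ 0 → φ g u = u → g = 1) (U : Submodule (ZMod r₀) W)
    (hU : Inv φ X U) : Nat.card X ∣ Nat.card U - 1 := by
  classical
  let _ : MulAction ↥X {u : U // u ≠ 0} :=
    { smul := fun g u => ⟨⟨φ g u.1, hU g g.2 _ u.1.2⟩, fun h => u.2 (by
        have h1 : φ (g : A) (u.1 : W) = 0 := congrArg Subtype.val h
        have h2 := inv_apply φ (g : A) (u.1 : W)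
        rw [h1, map_zero] at h2
        exact Subtype.ext h2.symm)⟩
      one_smul := fun u => Subtype.ext (Subtype.ext (by
        change φ (1 : A) (u.1 : W) = u.1
        rw [map_one]; rfl))
      mul_smul := fun g h u => Subtype.ext (Subtype.ext (by
        change φ ((g : A) * (h : A)) (u.1 : W) = φ g (φ h u.1)
        rw [map_mul]; rfl)) }
  have h1 := Cfsg.Agent.H23.FreeAct.card_dvd_of_free (D := ↥X) (α := {u : U // u ≠ 0}) (by
    intro d u h
    apply Subtype.ext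
    refine hX d d.2 (u.1 : W) (fun h0 => u.2 (Subtype.ext h0)) ?_
    exact congrArg (fun a : {u : U // u ≠ 0} => ((a : U) : W)) h)
  have h2 : Nat.card {u : U // u ≠ 0} = Nat.card U - 1 := by
    have h4 : {u : U | u ≠ 0} = ({0} : Set U)ᶜ := rfl
    change Nat.card {u : U | u ≠ 0} = _
    rw [h4, Nat.card_coe_set_eq, Set.ncard_compl, Set.ncard_singleton]
  rwa [h2] at h1

theorem irr_of_fpf {X : Subgroup A} (hX : ∀ g ∈ X, ∀ u : W, u ≠ 0 → φ g u = u → g = 1)
    (hk : ∀ k, 0 < k → k < finrank (ZMod r₀) W → ¬ Nat.card X ∣ r₀ ^ k - 1) : Irr φ X := by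
  intro U hU
  have : FiniteDimensional (ZMod r₀) W := Module.Finite.of_finite
  by_contra hcon
  push Not at hcon
  have h1 : 0 < finrank (ZMod r₀) U := by
    rw [Module.finrank_pos_iff]
    exact (Submodule.nontrivial_iff_ne_bot).2 hcon.1
  have h2 : finrank (ZMod r₀) U < finrank (ZMod r₀) W := Submodule.finrank_lt hcon.2
  apply hk _ h1 h2
  rw [← card_V (r₀ := r₀) (V := U)]
  exact fpf_dvd hX U hU

end Lin

/-! ### geometry -/

section Geo

variable {G : Type u} [Group G] [Finite G] {V : Type v} [MulAction G V] {P : Pol G V} {b : Bool}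

/-- `S y ⊓ S x → A = Stb (L y) x` -/
def pr (P : Pol G V) {x y : V} (hx : P.adj y x) : ↥(P.S y ⊓ P.S x) →* ↥(Stb (P.L y) ⟨x, hx⟩) :=
  ((P.toPerm y).comp (inclusion inf_le_left)).codRestrict _ (by
    rintro ⟨g, hg, hg'⟩
    have : (P.toPerm y) ⟨g, hg⟩ ∈ P.img y (P.S x) := mem_img.2 ⟨g, hg, hg', rfl⟩
    rwa [img_S hx] at this)

theorem pr_apply {x y : V} (hx : P.adj y x) (g : ↥(P.S y ⊓ P.S x)) (u : {w : V // P.adj y w}) :
    (((pr P hx g : ↥(Stb (P.L y) ⟨x, hx⟩)) : Equiv.Perm {w : V // P.adj y w}) u : V) = (g : G) • (u : V) := rfl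

theorem pr_surj {x y : V} (hx : P.adj y x) : Function.Surjective (pr P hx) := by
  rintro ⟨σ, hσ⟩
  have h1 := hσ
  rw [← img_S hx] at h1
  obtain ⟨g, hg, hg', h2⟩ := mem_img.1 h1
  exact ⟨⟨g, hg, hg'⟩, Subtype.ext h2⟩

theorem pr_eq_one {x y : V} (hx : P.adj y x) {g : ↥(P.S y ⊓ P.S x)} : pr P hx g = 1 ↔ (g : G) ∈ P.K y := by
  rw [← toPerm_eq_one g.2.1]
  constructor
  · intro h; exact congrArg Subtype.val h
  · intro h; exact Subtype.ext h

theorem n4 (F : Facts P) (hB : CaseB P b) (hn : P.n = 4) {x y : V} (hx : P.adj y x) (hy : P.tp y = b)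
    {r₀ : ℕ} [Fact r₀.Prime] {W : Type w} [AddCommGroup W] [Module (ZMod r₀) W] [Finite W]
    {φ : ↥(Stb (P.L y) ⟨x, hx⟩) →* Module.End (ZMod r₀) W} {w₁ : W} (H : TL r₀ W _ φ w₁)
    {ι : W ≃ {w : V // P.adj y w}} (hι0 : ι 0 = ⟨x, hx⟩)
    (hι : ∀ g v, ι (φ g v) = (g : Equiv.Perm {w : V // P.adj y w}) (ι v))
    (hcond : (∀ a ∈ EB P y, ∀ c ∈ EB P y, a * c = c * a) ∨
      (∀ k, 0 < k → k < finrank (ZMod r₀) W → ¬ Nat.card (EB P y) ∣ r₀ ^ k - 1))
    {p : ℕ} (hp : p.Prime) (hpE : p ∣ Nat.card (EB P y)) : P.q (!b) ≤ p := by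
  classical
  have hfp : Fact p.Prime := ⟨hp⟩
  have := finite_nb P y
  have := finite_nb P x
  have hxy : P.adj x y := P.symm hx
  have htpx : P.tp x = !b := by rw [P.tp_adj hx, hy]
  have htp : ∀ {w : V}, P.adj x w → P.tp w = b := by
    intro w hw
    rw [P.tp_adj hw, htpx, Bool.not_not]
  have hm : P.n / 2 - 1 = 1 := by rw [hn]
  have hm2 : P.n / 2 - 2 = 0 := by rw [hn]
  -- disjointness
  have hdis : ∀ {a c : V}, P.adj x a → P.adj x c → a ≠ c → EB P a ⊓ EB P c = ⊥ := by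
    intro a c ha hc hac
    obtain ⟨p, hp, h1, h2, h3⟩ := F.extend3 (P.symm ha) hc hac
    have h4 := J_eq_bot F hp
    rw [hm] at h4
    change EB P (p 1) ⊓ EB P (p 3) = ⊥ at h4
    rwa [h1, h3] at h4
  -- semiregularity
  have hsr : ∀ {w : V}, P.adj x w → w ≠ y → ∀ g ∈ EB P w, ∀ u, P.adj y u → u ≠ x → g • u = u → g = 1 := by
    intro w hw hwy g hg u hu hux hgu
    obtain ⟨p, hp, h1, h2, h3⟩ := F.extend3 hx hw hwy.symm
    refine J_semireg F hp (u := u) ?_ (by rw [h1]; exact hu) (by rw [h2]; exact hux) hgu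
    rw [hm2]
    change g ∈ EB P (p 3)
    rw [h3]; exact hg
  have hEK : ∀ {w : V}, P.adj x w → EB P w ≤ P.K x := fun hw => EB_le_K_nb (P.symm hw)
  have hES : ∀ {w : V}, P.adj x w → EB P w ≤ P.S y ⊓ P.S x := fun hw g hg =>
    mem_inf.2 ⟨K_le_S_nb hxy (hEK hw hg), P.K_le_S x (hEK hw hg)⟩
  -- commuting
  have hcomm : ∀ {w w' : V}, P.adj x w → P.adj x w' → w ≠ w' → ∀ a ∈ EB P w, ∀ c ∈ EB P w', a * c = c * a := by
    intro w w' hw hw' hne a ha c hc
    have h1 : a * c * a⁻¹ ∈ EB P w' := conj_mem_EB (K_le_S_nb hw' (hEK hw ha)) hc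
    have h2 : c * a⁻¹ * c⁻¹ ∈ EB P w := conj_mem_EB (K_le_S_nb hw (hEK hw' hc)) (inv_mem ha)
    have h3 : a * c * a⁻¹ * c⁻¹ ∈ EB P w ⊓ EB P w' := by
      refine mem_inf.2 ⟨?_, mul_mem h1 ((EB P w').inv_mem hc)⟩
      have := mul_mem ha h2
      rwa [show a * (c * a⁻¹ * c⁻¹) = a * c * a⁻¹ * c⁻¹ by group] at this
    rw [hdis hw hw' hne, mem_bot] at h3
    have h4 : a * c * a⁻¹ * c⁻¹ * (c * a) = a * c := by group
    rw [← h4, h3, one_mul]
  -- the groups `EB w` are conjugate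
  have hconj : ∀ {w w' : V}, P.adj x w → P.adj x w' → ∃ g : G, EB P w' = (EB P w).map (MulAut.conj g).toMonoidHom := by
    intro w w' hw hw'
    obtain ⟨g, -, hg⟩ := trans_nb F hw hw'
    exact ⟨g, by rw [← hg, EB_smul]⟩
  have hcard : ∀ {w : V}, P.adj x w → Nat.card (EB P w) = Nat.card (EB P y) := by
    intro w hw
    obtain ⟨g, hg⟩ := hconj hxy hw
    rw [hg]
    exact Nat.card_congr ((EB P y).equivMapOfInjective _ (MulAut.conj g).injective).toEquiv.symm
  -- injectivity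
  have hinj : ∀ {w : V}, P.adj x w → w ≠ y → ∀ g ∈ EB P w, g ∈ P.K y → g = 1 := by
    intro w hw hwy g hg hgy
    have h1 : g ∈ EB P y := by
      rw [← EB_eq hB hy hxy]
      exact ⟨hEK hw hg, hgy⟩
    have h2 : g ∈ EB P w ⊓ EB P y := ⟨hg, h1⟩
    rwa [hdis hw hxy hwy, mem_bot] at h2
  -- the image in `A`
  set π := pr P hx with hπ
  have hker : ∀ g, π g = 1 ↔ (g : G) ∈ P.K y := fun g => pr_eq_one hx
  let Im : V → Subgroup ↥(Stb (P.L y) ⟨x, hx⟩) := fun w => ((EB P w).subgroupOf (P.S y ⊓ P.S x)).map π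
  have hmemIm : ∀ {w : V} {a : ↥(Stb (P.L y) ⟨x, hx⟩)}, a ∈ Im w ↔ ∃ g, ∃ hg : g ∈ P.S y ⊓ P.S x, g ∈ EB P w ∧ π ⟨g, hg⟩ = a := by
    intro w a
    constructor
    · rintro ⟨⟨g, hg⟩, hgE, rfl⟩
      exact ⟨g, hg, mem_subgroupOf.1 hgE, rfl⟩
    · rintro ⟨g, hg, hgE, rfl⟩
      exact ⟨⟨g, hg⟩, mem_subgroupOf.2 hgE, rfl⟩
  have hfpf : ∀ {w : V}, P.adj x w → w ≠ y → ∀ a ∈ Im w, ∀ u : W, u ≠ 0 → φ a u = u → a = 1 := by
    intro w hw hwy a ha u hu hau
    obtain ⟨g, hg, hgE, rfl⟩ := hmemIm.1 ha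
    have h1 := hι (π ⟨g, hg⟩) u
    rw [hau] at h1
    have h2 : g • ((ι u : {w : V // P.adj y w}) : V) = (ι u : V) := (congrArg Subtype.val h1).symm
    have h3 : g = 1 := by
      refine hsr hw hwy g hgE _ (ι u).2 ?_ h2
      intro h4
      apply hu
      apply ι.injective
      rw [hι0]
      exact Subtype.ext h4
    rw [hker]
    change g ∈ P.K y
    rw [h3]
    exact one_mem _
  have hcardIm : ∀ {w : V}, P.adj x w → w ≠ y → Nat.card (Im w) = Nat.card (EB P y) := by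
    intro w hw hwy
    rw [← hcard hw]
    have e1 : Nat.card ((EB P w).subgroupOf (P.S y ⊓ P.S x)) = Nat.card (EB P w) :=
      Nat.card_congr (Subgroup.subgroupOfEquivOfLe (hES hw)).toEquiv
    rw [← e1]
    refine (Nat.card_congr (Equiv.ofBijective (fun g : (EB P w).subgroupOf (P.S y ⊓ P.S x) =>
      (⟨π g, mem_map_of_mem _ g.2⟩ : Im w)) ⟨?_, ?_⟩)).symm
    · rintro ⟨g, hg⟩ ⟨h, hh⟩ hgh
      have h1 : π g = π h := congrArg Subtype.val hgh
      have h2 : π (g * h⁻¹) = 1 := by rw [map_mul, map_inv, h1, mul_inv_cancel]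
      have h3 := hinj hw hwy _ (mul_mem (mem_subgroupOf.1 hg) (inv_mem (mem_subgroupOf.1 hh))) ((hker _).1 h2)
      apply Subtype.ext
      apply Subtype.ext
      exact mul_inv_eq_one.1 h3
    · rintro ⟨a, ha⟩
      obtain ⟨g, hg, rfl⟩ := ha
      exact ⟨⟨g, hg⟩, rfl⟩
  -- the union
  let S0 : Set ↥(Stb (P.L y) ⟨x, hx⟩) := {a | ∃ w, P.adj x w ∧ w ≠ y ∧ a ∈ Im w}
  have hIm_comm : ∀ {w w' : V}, P.adj x w → P.adj x w' → w ≠ w' → ∀ a ∈ Im w, ∀ c ∈ Im w', a * c = c * a := by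
    intro w w' hw hw' hne a ha c hc
    obtain ⟨g, hg, hgE, rfl⟩ := hmemIm.1 ha
    obtain ⟨h, hh, hhE, rfl⟩ := hmemIm.1 hc
    rw [← map_mul, ← map_mul]
    congr 1
    exact Subtype.ext (hcomm hw hw' hne g hgE h hhE)
  have hIm_ab : ∀ {w : V}, P.adj x w → w ≠ y → ∀ a ∈ Im w, ∀ c ∈ Im w, a * c = c * a := by
    intro w hw hwy a ha c hc
    rcases hcond with hcond | hcond
    · obtain ⟨g, hg, hgE, rfl⟩ := hmemIm.1 ha
      obtain ⟨h, hh, hhE, rfl⟩ := hmemIm.1 hc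
      obtain ⟨k, hk⟩ := hconj hxy hw
      have h1 := hgE
      have h2 := hhE
      rw [hk] at h1 h2
      obtain ⟨g', hg', rfl⟩ := h1
      obtain ⟨h', hh', rfl⟩ := h2
      rw [← map_mul, ← map_mul]
      congr 1
      apply Subtype.ext
      change (MulAut.conj k) g' * (MulAut.conj k) h' = (MulAut.conj k) h' * (MulAut.conj k) g'
      rw [← map_mul, ← map_mul, hcond g' hg' h' hh']
    · obtain ⟨u, u', hu, hu', huy, hu'y, huu'⟩ := Cfsg.Agent.H115.Tits.exists_two P x y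
      obtain ⟨w', hw', hw'y, hne⟩ : ∃ w', P.adj x w' ∧ w' ≠ y ∧ w' ≠ w := by
        by_cases h : u = w
        · exact ⟨u', hu', hu'y, fun h' => huu' (h.trans h'.symm)⟩
        · exact ⟨u, hu, huy, h⟩
      have hirr : Irr φ (Im w') := irr_of_fpf (hfpf hw' hw'y) (by rw [hcardIm hw' hw'y]; exact hcond)
      apply H.inj
      rw [map_mul, map_mul]
      refine comm_of_irr hirr ?_ ?_
      · intro d hd
        rw [← map_mul, ← map_mul, hIm_comm hw' hw hne d hd a ha]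
      · intro d hd
        rw [← map_mul, ← map_mul, hIm_comm hw' hw hne d hd c hc]
  have hS0comm : ∀ a ∈ S0, ∀ c ∈ S0, a * c = c * a := by
    rintro a ⟨w, hw, hwy, ha⟩ c ⟨w', hw', hwy', hc⟩
    by_cases h : w = w'
    · subst h
      exact hIm_ab hw hwy a ha c hc
    · exact hIm_comm hw hw' h a ha c hc
  have hS0conj : ∀ g : ↥(Stb (P.L y) ⟨x, hx⟩), ∀ a ∈ S0, g * a * g⁻¹ ∈ S0 := by
    rintro g a ⟨w, hw, hwy, ha⟩
    obtain ⟨k, rfl⟩ := pr_surj hx g
    obtain ⟨h, hh, hhE, rfl⟩ := hmemIm.1 ha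
    have hkx : (k : G) • x = x := k.2.2
    have hky : (k : G) • y = y := k.2.1
    refine ⟨(k : G) • w, ?_, ?_, hmemIm.2 ⟨(k : G) * h * (k : G)⁻¹, ?_, ?_, ?_⟩⟩
    · have := P.smul_adj (k : G) hw
      rwa [hkx] at this
    · intro h1
      apply hwy
      exact (smul_left_cancel_iff (k : G)).1 (h1.trans hky.symm)
    · exact mul_mem (mul_mem k.2 hh) (inv_mem k.2)
    · rw [EB_smul]
      exact ⟨h, hhE, rfl⟩
    · rw [← map_mul, ← map_inv, ← map_mul]
      rfl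
  let D := closure S0
  have hDn : D.Normal := by
    constructor
    intro a ha g
    induction ha using closure_induction with
    | mem a ha => exact subset_closure (hS0conj g a ha)
    | one => rw [mul_one, mul_inv_cancel]; exact one_mem _
    | mul a c _ _ ha hc =>
      rw [show g * (a * c) * g⁻¹ = g * a * g⁻¹ * (g * c * g⁻¹) by group]
      exact mul_mem ha hc
    | inv a _ ha =>
      rw [show g * a⁻¹ * g⁻¹ = (g * a * g⁻¹)⁻¹ by group]
      exact inv_mem ha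
  have hDc : ∀ a ∈ D, ∀ c ∈ D, a * c = c * a := by
    have h1 : D ≤ centralizer (D : Set ↥(Stb (P.L y) ⟨x, hx⟩)) := by
      have h2 : S0 ⊆ centralizer (S0 : Set ↥(Stb (P.L y) ⟨x, hx⟩)) := by
        intro a ha
        rw [SetLike.mem_coe, mem_centralizer_iff]
        intro c hc
        exact (hS0comm a ha c hc).symm
      have h3 : D ≤ centralizer (S0 : Set ↥(Stb (P.L y) ⟨x, hx⟩)) := (closure_le _).2 h2
      rw [le_centralizer_iff]
      rw [closure_le]
      intro a ha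
      rw [SetLike.mem_coe, mem_centralizer_iff]
      intro c hc
      exact ((mem_centralizer_iff.1 (h3 hc)) a ha).symm
    intro a ha c hc
    exact ((mem_centralizer_iff.1 (h1 ha)) c hc).symm
  obtain ⟨-, hcyc⟩ := TLabelian H hDn hDc
  have hImD : ∀ {w : V}, P.adj x w → w ≠ y → Im w ≤ D := fun hw hwy a ha => subset_closure ⟨_, hw, hwy, ha⟩
  -- unique subgroup of order `p`
  have huniq : ∀ a ∈ D, ∀ c ∈ D, orderOf a = p → orderOf c = p → ∃ k : ℕ, a = c ^ k := by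
    intro a ha c hc hao hco
    have := Fintype.ofFinite D
    have hle := IsCyclic.card_pow_eq_one_le (α := D) hp.pos
    have hpow : ∀ {d : ↥(Stb (P.L y) ⟨x, hx⟩)} (hd : d ∈ D), orderOf d = p → (⟨d, hd⟩ : D) ^ p = 1 := by
      intro d hd hdo
      apply Subtype.ext
      rw [SubmonoidClass.coe_pow, ← hdo, pow_orderOf_eq_one]
      rfl
    have hco' : orderOf (⟨c, hc⟩ : D) = p := by rw [← hco, ← Subgroup.orderOf_coe]
    have hsub : (Finset.range p).image (fun k => (⟨c, hc⟩ : D) ^ k) ⊆ Finset.univ.filter (fun a : D => a ^ p = 1) := by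
      intro d hd
      obtain ⟨k, -, rfl⟩ := Finset.mem_image.1 hd
      rw [Finset.mem_filter]
      refine ⟨Finset.mem_univ _, ?_⟩
      rw [← pow_mul, mul_comm, pow_mul, hpow hc hco, one_pow]
    have hcard' : ((Finset.range p).image (fun k => (⟨c, hc⟩ : D) ^ k)).card = p := by
      rw [Finset.card_image_of_injOn, Finset.card_range]
      intro i hi j hj hij
      have hi' : i < p := by simpa using hi
      have hj' : j < p := by simpa using hj
      have h5 : i ≡ j [MOD p] := by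
        have := pow_eq_pow_iff_modEq.1 hij
        rwa [hco'] at this
      exact (Nat.ModEq.eq_of_lt_of_lt h5 hi' hj')
    have heq := Finset.eq_of_subset_of_card_le hsub (by rw [hcard']; exact hle)
    have h6 : (⟨a, ha⟩ : D) ∈ Finset.univ.filter (fun a : D => a ^ p = 1) := by
      rw [Finset.mem_filter]
      exact ⟨Finset.mem_univ _, hpow ha hao⟩
    rw [← heq] at h6
    obtain ⟨k, -, hk⟩ := Finset.mem_image.1 h6
    refine ⟨k, ?_⟩
    have := (congrArg Subtype.val hk).symm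
    rwa [SubmonoidClass.coe_pow] at this
  -- elements of order `p`
  have hord : ∀ {w : V} (hw : P.adj x w), w ≠ y → ∀ g (hg : g ∈ EB P w), orderOf g = p → orderOf (π ⟨g, hES hw hg⟩) = p := by
    intro w hw hwy g hg hgo
    apply orderOf_eq_prime
    · rw [← map_pow]
      have : (⟨g, hES hw hg⟩ : ↥(P.S y ⊓ P.S x)) ^ p = 1 := by
        apply Subtype.ext
        rw [SubmonoidClass.coe_pow, ← hgo, pow_orderOf_eq_one]
        rfl
      rw [this, map_one]
    · intro h1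
      have h2 := hinj hw hwy g hg ((hker _).1 h1)
      rw [h2, orderOf_one] at hgo
      exact hp.one_lt.ne hgo
  obtain ⟨w₀, -, hw₀, -, hw₀y, -, -⟩ := Cfsg.Agent.H115.Tits.exists_two P x y
  have hexp : ∀ {w : V}, P.adj x w → ∃ g ∈ EB P w, orderOf g = p := by
    intro w hw
    obtain ⟨g, hg⟩ := exists_prime_orderOf_dvd_card' (G := EB P w) p (by rw [hcard hw]; exact hpE)
    exact ⟨g, g.2, by rw [← hg, Subgroup.orderOf_coe]⟩
  obtain ⟨f₀, hf₀, hf₀o⟩ := hexp hw₀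
  set z₀ := π ⟨f₀, hES hw₀ hf₀⟩ with hz₀
  have hz₀o : orderOf z₀ = p := hord hw₀ hw₀y f₀ hf₀ hf₀o
  have hz₀D : z₀ ∈ D := hImD hw₀ hw₀y (hmemIm.2 ⟨f₀, _, hf₀, rfl⟩)
  have hchoose : ∀ w : {w : V // P.adj x w ∧ w ≠ y}, ∃ e, ∃ he : e ∈ EB P w.1, π ⟨e, hES w.2.1 he⟩ = z₀ := by
    rintro ⟨w, hw, hwy⟩
    obtain ⟨f, hf, hfo⟩ := hexp hw
    have h1 := hord hw hwy f hf hfo
    obtain ⟨k, hk⟩ := huniq z₀ hz₀D _ (hImD hw hwy (hmemIm.2 ⟨f, _, hf, rfl⟩)) hz₀o h1
    refine ⟨f ^ k, pow_mem hf k, ?_⟩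
    rw [hk, ← map_pow]
    rfl
  choose e he hez using hchoose
  let W₀ : {w : V // P.adj x w ∧ w ≠ y} := ⟨w₀, hw₀, hw₀y⟩
  have hz₀1 : z₀ ≠ 1 := by
    intro h
    rw [h, orderOf_one] at hz₀o
    exact hp.one_lt.ne hz₀o
  have hep : ∀ w, e w ^ p = 1 := by
    intro w
    refine hinj w.2.1 w.2.2 _ (pow_mem (he w) p) ?_
    have h1 : π (⟨e w, hES w.2.1 (he w)⟩ ^ p) = 1 := by
      rw [map_pow, hez, ← hz₀o, pow_orderOf_eq_one]
    exact (hker _).1 h1
  have hmem : ∀ w, e w * (e W₀)⁻¹ ∈ EB P y := by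
    intro w
    rw [← EB_eq hB hy hxy]
    refine mem_inf.2 ⟨mul_mem (hEK w.2.1 (he w)) ((P.K x).inv_mem (hEK W₀.2.1 (he W₀))), ?_⟩
    have h1 : π (⟨e w, hES w.2.1 (he w)⟩ * ⟨e W₀, hES W₀.2.1 (he W₀)⟩⁻¹) = 1 := by
      rw [map_mul, map_inv, hez, hez, mul_inv_cancel]
    exact (hker _).1 h1
  have hpp : ∀ w, (e w * (e W₀)⁻¹) ^ p = 1 := by
    intro w
    by_cases h : w = W₀
    · rw [h, mul_inv_cancel, one_pow]
    · have h1 : Commute (e w) (e W₀) := hcomm w.2.1 W₀.2.1 (fun h' => h (Subtype.ext h')) _ (he w) _ (he W₀)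
      rw [(h1.inv_right).mul_pow, hep, inv_pow, hep, inv_one, mul_one]
  have hinj2 : ∀ w w', e w * (e W₀)⁻¹ = e w' * (e W₀)⁻¹ → w = w' := by
    intro w w' h
    have h1 : e w = e w' := mul_right_cancel h
    by_contra hne
    have h2 : e w ∈ EB P w.1 ⊓ EB P w'.1 := ⟨he w, by rw [h1]; exact he w'⟩
    rw [hdis w.2.1 w'.2.1 (fun h' => hne (Subtype.ext h')), mem_bot] at h2
    apply hz₀1
    rw [← hez w, hker]
    change e w ∈ P.K y
    rw [h2]
    exact one_mem _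
  -- `EB y` is cyclic
  have hcycE : IsCyclic (EB P y) := by
    have h1 : IsCyclic (EB P w₀) := by
      refine isCyclic_of_injective (G' := D) (((π.comp (inclusion (hES hw₀))).codRestrict D (by
        rintro ⟨g, hg⟩
        exact hImD hw₀ hw₀y (hmemIm.2 ⟨g, hES hw₀ hg, hg, rfl⟩)))) ?_
      rw [injective_iff_map_eq_one]
      rintro ⟨g, hg⟩ hg1
      apply Subtype.ext
      refine hinj hw₀ hw₀y g hg ((hker ⟨g, hES hw₀ hg⟩).1 ?_)
      exact congrArg Subtype.val hg1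
    obtain ⟨k, hk⟩ := hconj hw₀ hxy
    rw [hk]
    exact isCyclic_of_surjective ((EB P w₀).equivMapOfInjective _ (MulAut.conj k).injective).toMonoidHom
      ((EB P w₀).equivMapOfInjective _ (MulAut.conj k).injective).surjective
  -- counting
  have := Fintype.ofFinite (EB P y)
  have hle := IsCyclic.card_pow_eq_one_le (α := EB P y) hp.pos
  have hΓ : Nat.card {w : V // P.adj x w ∧ w ≠ y} = P.q (!b) := by
    have h3 : Nat.card {w : {w : V // P.adj x w} | w.1 ≠ y} = Nat.card {w : V // P.adj x w} - 1 := by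
      have h4 : {w : {w : V // P.adj x w} | w.1 ≠ y} = ({⟨y, hxy⟩} : Set _)ᶜ := by
        ext w
        simp only [Set.mem_ofPred_eq, Set.mem_compl_iff, Set.mem_singleton_iff, ne_eq]
        exact not_congr ⟨fun h => Subtype.ext h, fun h => congrArg Subtype.val h⟩
      rw [h4, Nat.card_coe_set_eq, Set.ncard_compl, Set.ncard_singleton]
    rw [P.card_nb, htpx] at h3
    rw [show P.q (!b) + 1 - 1 = P.q (!b) from rfl] at h3
    rw [← h3]
    exact (Nat.card_congr (Equiv.subtypeSubtypeEquivSubtypeInter (fun w : V => P.adj x w) (fun w => w ≠ y))).symm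
  rw [← hΓ]
  have hfin : Finite {w : V // P.adj x w ∧ w ≠ y} := Nat.finite_of_card_ne_zero (by
    rw [hΓ]
    have := P.two_le (!b)
    omega)
  have := Fintype.ofFinite {w : V // P.adj x w ∧ w ≠ y}
  rw [Nat.card_eq_fintype_card]
  refine le_trans ?_ hle
  rw [← Finset.card_univ]
  refine Finset.card_le_card_of_injOn (fun w => (⟨e w * (e W₀)⁻¹, hmem w⟩ : EB P y)) ?_ ?_
  · intro w _
    rw [Finset.mem_coe, Finset.mem_filter]
    exact ⟨Finset.mem_univ _, Subtype.ext (hpp w)⟩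
  · intro w _ w' _ h
    exact hinj2 w w' (congrArg Subtype.val h)

end Geo

end Cfsg.Agent.H263.TW
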