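import Cfsg.Agent.H873.Tits.Facts

/-!
# S3414, case (B), affine: numerical lemmas (helper263)
-/

set_option autoImplicit false
set_option maxRecDepth 100000
set_option synthInstance.maxHeartbeats 2000000
set_option synthInstance.maxSize 4000

namespace Cfsg.Agent.H263.TW

open Cfsg.Agent.H873.Tits

universe u v

/-- the numerical conditions -/
structure NB (n s t : ℕ) : Prop where
  two_s : 2 ≤ s
  two_t : 2 ≤ t
  hn : n = 4 ∨ n = 6 ∨ n = 8
  h48 : (n = 4 ∨ n = 8) → t ≤ s ^ 2 ∧ s ≤ t ^ 2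
  h6 : n = 6 → t ≤ s ^ 3 ∧ s ≤ t ^ 3
  fh4 : n = 4 → (s + t) ∣ 2 * s * t * (1 + s) * (1 + t)
  fh6 : n = 6 → ∃ g : ℕ, s * t = g ^ 2 ∧ (s + t + g) ∣ g ^ 2 * (1 + s) * (1 + t) * (1 + g ^ 2 + g) ∧
    (s + t - g) ∣ g ^ 2 * (1 + s) * (1 + t) * (1 + g ^ 2 - g)
  fh8 : n = 8 → ∃ h : ℕ, 2 * s * t = h ^ 2 ∧
    (s + t) ∣ s * t * (1 + s) * (1 + t) * (1 + (s * t) ^ 2) ∧
    2 * (s + t + h) ∣ s * t * (1 + s) * (1 + t) * (1 + s * t) * (1 + s * t + h)

theorem nb {G : Type u} [Group G] {V : Type v} [MulAction G V] {P : Pol G V} (N : Num P) (b : Bool) :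
    NB P.n (P.q (!b)) (P.q b) where
  two_s := P.two_le _
  two_t := P.two_le _
  hn := P.hn
  h48 h := ⟨N.hig48 h b, by have := N.hig48 h (!b); rwa [Bool.not_not] at this⟩
  h6 h := ⟨N.hig6 h b, by have := N.hig6 h (!b); rwa [Bool.not_not] at this⟩
  fh4 h := by
    have h1 := N.fh4 h
    cases b
    · exact h1
    · rw [Bool.not_true]
      rw [show P.q true + P.q false = P.q false + P.q true by ring,
        show 2 * P.q true * P.q false * (1 + P.q true) * (1 + P.q false) =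
          2 * P.q false * P.q true * (1 + P.q false) * (1 + P.q true) by ring] at h1
      exact h1
  fh6 h := by
    obtain ⟨g, h1, h2, h3⟩ := N.fh6 h
    cases b
    · exact ⟨g, h1, h2, h3⟩
    · rw [Bool.not_true]
      refine ⟨g, by rw [mul_comm]; exact h1, ?_, ?_⟩
      · rw [add_comm (P.q true) (P.q false), mul_right_comm (g ^ 2) (1 + P.q true) (1 + P.q false)] at h2
        exact h2
      · rw [add_comm (P.q true) (P.q false), mul_right_comm (g ^ 2) (1 + P.q true) (1 + P.q false)] at h3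
        exact h3
  fh8 h := by
    obtain ⟨g, h1, h2, h3, -⟩ := N.fh8 h
    cases b
    · exact ⟨g, h1, h2, h3⟩
    · rw [Bool.not_true]
      refine ⟨g, by rw [← h1]; ring, ?_, ?_⟩
      · rw [add_comm (P.q true) (P.q false), mul_comm (P.q true) (P.q false),
          mul_right_comm (P.q false * P.q true) (1 + P.q true) (1 + P.q false)] at h2
        exact h2
      · rw [add_comm (P.q true) (P.q false), mul_comm (P.q true) (P.q false),
          mul_right_comm (P.q false * P.q true) (1 + P.q true) (1 + P.q false)] at h3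
        exact h3

/-- not a square: strictly between two squares -/
theorem not_sq {a k g : ℕ} (h1 : k ^ 2 < a) (h2 : a < (k + 1) ^ 2) (h : a = g ^ 2) : False := by
  rw [h] at h1 h2
  have h3 := lt_of_pow_lt_pow_left₀ 2 (Nat.zero_le g) h1
  have h4 := lt_of_pow_lt_pow_left₀ 2 (Nat.zero_le (k + 1)) h2
  omega

/-- a prime dividing exactly once -/
theorem not_sq_of_once {p a g : ℕ} (hp : p.Prime) (ha : ¬ p ∣ a) (h : p * a = g ^ 2) : False := by
  have h1 : p ∣ g := hp.dvd_of_dvd_pow (h ▸ Dvd.intro a rfl)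
  obtain ⟨c, rfl⟩ := h1
  apply ha
  refine ⟨c ^ 2, Nat.eq_of_mul_eq_mul_left hp.pos ?_⟩
  rw [h]; ring

theorem num_3_26 {n : ℕ} (h : NB n 3 26) : False := by
  rcases h.hn with rfl | rfl | rfl
  · have := (h.h48 (Or.inl rfl)).1; omega
  · obtain ⟨g, hg, -, -⟩ := h.fh6 rfl
    exact not_sq (k := 8) (by norm_num) (by norm_num) hg
  · have := (h.h48 (Or.inr rfl)).1; omega

theorem num_4_15 {n : ℕ} (h : NB n 4 15) : False := by
  rcases h.hn with rfl | rfl | rfl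
  · have := h.fh4 rfl
    norm_num at this
  · obtain ⟨g, hg, -, -⟩ := h.fh6 rfl
    exact not_sq (k := 7) (by norm_num) (by norm_num) hg
  · obtain ⟨g, hg, -, -⟩ := h.fh8 rfl
    exact not_sq (k := 10) (by norm_num) (by norm_num) hg

theorem num_8_255 {n : ℕ} (h : NB n 8 255) : False := by
  rcases h.hn with rfl | rfl | rfl
  · have := (h.h48 (Or.inl rfl)).1; omega
  · obtain ⟨g, hg, -, -⟩ := h.fh6 rfl
    exact not_sq (k := 45) (by norm_num) (by norm_num) hg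
  · have := (h.h48 (Or.inr rfl)).1; omega

theorem num_two {n s t r₀ : ℕ} (hr : r₀.Prime) (ht : t + 1 = r₀ ^ 2) (hs : s ∣ r₀ ^ 2 - r₀) (h0 : r₀ ∣ s)
    (h : NB n s t) : n = 4 ∧ r₀ ≠ 2 := by
  obtain ⟨c, rfl⟩ := h0
  have hr2 := hr.two_le
  have hc : c ∣ r₀ - 1 := by
    rw [show r₀ ^ 2 - r₀ = r₀ * (r₀ - 1) by rw [Nat.mul_sub, mul_one, pow_two]] at hs
    exact Nat.dvd_of_mul_dvd_mul_left hr.pos hs
  have hct : ¬ r₀ ∣ c * t := by
    intro h1
    rcases hr.dvd_mul.1 h1 with h2 | h2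
    · have h3 := Nat.le_of_dvd (by omega) (h2.trans hc)
      omega
    · have h3 : r₀ ∣ t + 1 := by rw [ht]; exact dvd_pow_self _ two_ne_zero
      have h4 := (Nat.dvd_add_right h2).1 h3
      exact hr.one_lt.ne' (Nat.dvd_one.1 h4)
  by_cases h2 : r₀ = 2
  · exfalso
    subst h2
    have hc1 : c = 1 := Nat.dvd_one.1 hc
    subst hc1
    obtain rfl : t = 3 := by omega
    rcases h.hn with rfl | rfl | rfl
    · have := h.fh4 rfl
      norm_num at this
    · obtain ⟨g, hg, -, -⟩ := h.fh6 rfl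
      exact not_sq (k := 2) (by norm_num) (by norm_num) hg
    · obtain ⟨g, hg, -, -⟩ := h.fh8 rfl
      exact not_sq (k := 3) (by norm_num) (by norm_num) hg
  refine ⟨?_, h2⟩
  rcases h.hn with hn | hn | hn
  · exact hn
  · exfalso
    obtain ⟨g, hg, -, -⟩ := h.fh6 hn
    exact not_sq_of_once hr hct (by rw [← hg]; ring)
  · exfalso
    obtain ⟨g, hg, -, -⟩ := h.fh8 hn
    refine not_sq_of_once hr (a := 2 * (c * t)) ?_ (by rw [← hg]; ring)
    intro h1
    rcases hr.dvd_mul.1 h1 with h3 | h3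
    · exact h2 ((Nat.prime_dvd_prime_iff_eq hr Nat.prime_two).1 h3)
    · exact hct h3

theorem num_three_four {n s : ℕ} (hs : s ∣ 48) (h0 : 3 ∣ s) (h : NB n s 80) : n = 4 ∧ s = 48 := by
  have h1 : s ≤ 48 := Nat.le_of_dvd (by norm_num) hs
  rcases h.hn with rfl | rfl | rfl
  · have h2 := (h.h48 (Or.inl rfl)).1
    have h3 := h.fh4 rfl
    refine ⟨rfl, ?_⟩
    clear h
    revert h2 h3 h0 hs
    have : ∀ s < 49, s ∣ 48 → 3 ∣ s → 80 ≤ s ^ 2 → s + 80 ∣ 2 * s * 80 * (1 + s) * (1 + 80) → s = 48 := by decide +kernel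
    exact fun a b c d => this s (by omega) a b c d
  · exfalso
    obtain ⟨g, hg, -, -⟩ := h.fh6 rfl
    refine not_sq_of_once (p := 5) Nat.prime_five (a := 16 * s) ?_ (by rw [← hg]; ring)
    intro h3
    rcases Nat.prime_five.dvd_mul.1 h3 with h4 | h4
    · revert h4; decide
    · have h5 := h4.trans hs
      revert h5; decide
  · exfalso
    obtain ⟨g, hg, -, -⟩ := h.fh8 rfl
    refine not_sq_of_once (p := 5) Nat.prime_five (a := 32 * s) ?_ (by rw [← hg]; ring)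
    intro h3
    rcases Nat.prime_five.dvd_mul.1 h3 with h4 | h4
    · revert h4; decide
    · have h5 := h4.trans hs
      revert h5; decide

theorem cube_lt (e : ℕ) : (e + 10) ^ 3 + 1 < 2 ^ (e + 10) := by
  induction e with
  | zero => norm_num
  | succ e ih =>
    rw [show e + 1 + 10 = (e + 10) + 1 by ring, pow_succ 2]
    nlinarith [Nat.zero_le e, sq_nonneg e, Nat.zero_le (e ^ 2), Nat.zero_le (e ^ 3)]

/-- the case `T ∣ e` -/
theorem num_dvd {n s t r₀ e : ℕ} (hr : r₀.Prime) (he : 3 ≤ e) (h26 : ¬ (r₀ = 2 ∧ e = 6)) (ht : t + 1 = r₀ ^ e)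
    (hs : s ∣ e) (h0 : r₀ ∣ s) (h : NB n s t) : False := by
  have hse := Nat.le_of_dvd (by omega) hs
  have hrs := Nat.le_of_dvd (by have := h.two_s; omega) h0
  have hts : t ≤ s ^ 3 := by
    rcases h.hn with hn | hn | hn
    · exact (h.h48 (Or.inl hn)).1.trans (Nat.pow_le_pow_right (by have := h.two_s; omega) (by norm_num))
    · exact (h.h6 hn).1
    · exact (h.h48 (Or.inr hn)).1.trans (Nat.pow_le_pow_right (by have := h.two_s; omega) (by norm_num))
  have he9 : e ≤ 9 := by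
    by_contra hcon
    obtain ⟨k, rfl⟩ : ∃ k, e = k + 10 := ⟨e - 10, by omega⟩
    have h1 := cube_lt k
    have h2 : 2 ^ (k + 10) ≤ r₀ ^ (k + 10) := Nat.pow_le_pow_left hr.two_le _
    have h3 : s ^ 3 ≤ (k + 10) ^ 3 := Nat.pow_le_pow_left hse 3
    omega
  have h1 : r₀ ^ e ≤ s ^ 3 + 1 := by omega
  have key : ∀ e < 10, ∀ s < 10, ∀ r < 10, (3 ≤ e ∧ s ∣ e ∧ 2 ≤ r ∧ r ∣ s ∧ r ^ e ≤ s ^ 3 + 1) →
      ((r = 3 ∧ e = 3 ∧ s = 3) ∨ (r = 2 ∧ e = 4 ∧ s = 4) ∨ (r = 2 ∧ e = 6) ∨ (r = 2 ∧ e = 8 ∧ s = 8)) := by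
    decide +kernel
  rcases key e (by omega) s (by omega) r₀ (by omega) ⟨he, hs, hr.two_le, h0, h1⟩ with ⟨rfl, rfl, rfl⟩ | ⟨rfl, rfl, rfl⟩ | h2 |
    ⟨rfl, rfl, rfl⟩
  · obtain rfl : t = 26 := by omega
    exact num_3_26 h
  · obtain rfl : t = 15 := by omega
    exact num_4_15 h
  · exact h26 h2
  · obtain rfl : t = 255 := by omega
    exact num_8_255 h

/-- the bound for the order of the stabilizer of a vector in `GL_6(2)` -/
def N26 : ℕ := 2 ^ 15 * 9 * 5 * 7 * 31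

theorem num_two_six {n s : ℕ} (hs : s ∣ N26) (h0 : 2 ∣ s) (h : NB n s 63) :
    (n = 4 ∧ 8 ≤ s ∧ 3 ∣ s) ∨ (n ≠ 4 ∧ (s = 252 ∨ s = 126)) := by
  rcases h.hn with rfl | rfl | rfl
  · left
    have h1 := h.h48 (Or.inl rfl)
    have h2 := h.fh4 rfl
    have h8 : 8 ≤ s := by
      by_contra hcon
      have h3 : s ≤ 7 := by omega
      have h4 : s ^ 2 ≤ 7 ^ 2 := Nat.pow_le_pow_left h3 2
      omega
    refine ⟨rfl, h8, ?_⟩
    have key : ∀ s < 3970, 8 ≤ s → 2 ∣ s → N26 % s = 0 → (2 * s * 63 * (1 + s) * (1 + 63)) % (s + 63) = 0 → 3 ∣ s := by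
      decide +kernel
    exact key s (by omega) h8 h0 (Nat.mod_eq_zero_of_dvd hs) (Nat.mod_eq_zero_of_dvd h2)
  · right
    refine ⟨by norm_num, ?_⟩
    obtain ⟨g, hg, hd, hd'⟩ := h.fh6 rfl
    have h1 := (h.h6 rfl).2
    -- `g = 21 h`
    have h7 : 7 ∣ g := (by norm_num : Nat.Prime 7).dvd_of_dvd_pow (n := 2) (hg ▸ ⟨s * 9, by ring⟩)
    have h3 : 3 ∣ g := (by norm_num : Nat.Prime 3).dvd_of_dvd_pow (n := 2) (hg ▸ ⟨s * 21, by ring⟩)
    have h21 : 21 ∣ g := by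
      have := Nat.Coprime.mul_dvd_of_dvd_of_dvd (by norm_num : Nat.Coprime 7 3) h7 h3
      exact this
    obtain ⟨k, rfl⟩ := h21
    have hs7 : s = 7 * k ^ 2 := by nlinarith
    have hk : k < 190 := by
      by_contra hcon
      have h3 : 190 ≤ k := by omega
      have h4 : 190 ^ 2 ≤ k ^ 2 := Nat.pow_le_pow_left h3 2
      omega
    subst hs7
    have key : ∀ k < 190, 1 ≤ k → 2 ∣ 7 * k ^ 2 → N26 % (7 * k ^ 2) = 0 →
        ((21 * k) ^ 2 * (1 + 7 * k ^ 2) * (1 + 63) * (1 + (21 * k) ^ 2 + 21 * k)) % (7 * k ^ 2 + 63 + 21 * k) = 0 →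
        ((21 * k) ^ 2 * (1 + 7 * k ^ 2) * (1 + 63) * (1 + (21 * k) ^ 2 - 21 * k)) % (7 * k ^ 2 + 63 - 21 * k) = 0 →
        k = 6 := by
      decide +kernel
    have hk1 : 1 ≤ k := by
      rcases Nat.eq_zero_or_pos k with rfl | hk
      · have := h.two_s; omega
      · exact hk
    have := key k hk hk1 h0 (Nat.mod_eq_zero_of_dvd hs) (Nat.mod_eq_zero_of_dvd hd) (Nat.mod_eq_zero_of_dvd hd')
    subst this
    left; norm_num
  · right
    refine ⟨by norm_num, ?_⟩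
    obtain ⟨g, hg, hd, hd'⟩ := h.fh8 rfl
    have h1 := (h.h48 (Or.inr rfl)).2
    have h7 : 7 ∣ g := (by norm_num : Nat.Prime 7).dvd_of_dvd_pow (n := 2) (hg ▸ ⟨s * 18, by ring⟩)
    have h3 : 3 ∣ g := (by norm_num : Nat.Prime 3).dvd_of_dvd_pow (n := 2) (hg ▸ ⟨s * 42, by ring⟩)
    have h2 : 2 ∣ g := (by norm_num : Nat.Prime 2).dvd_of_dvd_pow (n := 2) (hg ▸ ⟨s * 63, by ring⟩)
    have h42 : 42 ∣ g := by
      have h21 := Nat.Coprime.mul_dvd_of_dvd_of_dvd (by norm_num : Nat.Coprime 7 3) h7 h3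
      have := Nat.Coprime.mul_dvd_of_dvd_of_dvd (by norm_num : Nat.Coprime (7 * 3) 2) h21 h2
      exact this
    obtain ⟨k, rfl⟩ := h42
    have hs7 : s = 14 * k ^ 2 := by nlinarith
    have hk : k < 17 := by
      by_contra hcon
      have h3 : 17 ≤ k := by omega
      have h4 : 17 ^ 2 ≤ k ^ 2 := Nat.pow_le_pow_left h3 2
      omega
    subst hs7
    have key : ∀ k < 17, 1 ≤ k → N26 % (14 * k ^ 2) = 0 →
        (14 * k ^ 2 * 63 * (1 + 14 * k ^ 2) * (1 + 63) * (1 + (14 * k ^ 2 * 63) ^ 2)) % (14 * k ^ 2 + 63) = 0 →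
        (14 * k ^ 2 * 63 * (1 + 14 * k ^ 2) * (1 + 63) * (1 + 14 * k ^ 2 * 63) * (1 + 14 * k ^ 2 * 63 + 42 * k)) %
          (2 * (14 * k ^ 2 + 63 + 42 * k)) = 0 → 63 ≤ (14 * k ^ 2) ^ 2 → k = 3 := by
      decide +kernel
    have hk1 : 1 ≤ k := by
      rcases Nat.eq_zero_or_pos k with rfl | hk
      · have := h.two_s; omega
      · exact hk
    have := key k hk hk1 (Nat.mod_eq_zero_of_dvd hs) (Nat.mod_eq_zero_of_dvd hd) (Nat.mod_eq_zero_of_dvd hd')
      (h.h48 (Or.inr rfl)).1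
    subst this
    right; norm_num

end Cfsg.Agent.H263.TW
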