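import Cfsg.Agent.H263.TW.ChainTwo
import Cfsg.Agent.H263.TW.NFour
import Cfsg.Agent.H263.TW.NumB
import Cfsg.Agent.H263.TW.HerB
import Cfsg.Agent.H263.TW.Bridge
import Cfsg.Agent.H482.Tab.Six
import Cfsg.Agent.H506.Tits.StmtsB
import Cfsg.Agent.PLocal.SubnormalCore

/-!
# S3414, case (B): the affine case (helper263)

`st_baff_of : HerStmt → StBAff`.
-/

set_option autoImplicit false
set_option linter.unusedSectionVars false
set_option linter.style.haveILetI false

namespace Cfsg.Agent.H263.TW

open Subgroup Module Cfsg Cfsg.Agent.H482.Tab Cfsg.Agent.H873.Tits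

universe u v

theorem twoTr_L {G : Type u} [Group G] {V : Type v} [MulAction G V] {P : Pol G V} (F : Facts P) (y : V) :
    TwoTr (P.L y) := by
  intro a b a' b' hab ha'b'
  obtain ⟨g, hg, h1, h2⟩ := F.two_trans a.2 b.2 (fun h => hab (Subtype.ext h)) a'.2 b'.2
    (fun h => ha'b' (Subtype.ext h))
  exact ⟨P.toPerm y ⟨g, hg⟩, mem_img.2 ⟨g, hg, hg, rfl⟩, Subtype.ext h1, Subtype.ext h2⟩

section Prod

/-- a primitive prime divisor does not divide the order of the stabilizer -/
theorem prim_not_dvd {r₀ r e : ℕ} (hr₀ : r₀.Prime) (hr : r.Prime) (hrd : ∀ m, r ∣ r₀ ^ m - 1 ↔ e + 1 ∣ m) :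
    ¬ r ∣ ∏ i : Fin e, (r₀ ^ (e + 1) - r₀ ^ ((i : ℕ) + 1)) := by
  intro h
  have hrr : ¬ r ∣ r₀ := by
    intro h1
    have h2 : r ∣ r₀ ^ (e + 1) - 1 := (hrd _).2 dvd_rfl
    have h3 : r ∣ r₀ ^ (e + 1) := dvd_pow h1 (by omega)
    have h4 : 1 ≤ r₀ ^ (e + 1) := Nat.one_le_pow _ _ hr₀.pos
    have h5 := Nat.dvd_sub h3 h2
    rw [Nat.sub_sub_self h4] at h5
    exact hr.one_lt.ne' (Nat.dvd_one.1 h5)
  obtain ⟨i, -, hi⟩ := (hr.prime.dvd_finsetProd_iff _).1 h
  have h1 : r₀ ^ (e + 1) - r₀ ^ ((i : ℕ) + 1) = r₀ ^ ((i : ℕ) + 1) * (r₀ ^ (e - i) - 1) := by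
    rw [Nat.mul_sub, mul_one, ← pow_add]
    congr 2
    have := i.2
    omega
  rw [h1] at hi
  rcases hr.dvd_mul.1 hi with h2 | h2
  · exact hrr (hr.dvd_of_dvd_pow h2)
  · have h3 := Nat.le_of_dvd (by have := i.2; omega) ((hrd _).1 h2)
    have := i.2
    omega

theorem num_E2 {r₀ s t d i E : ℕ} (h2 : 2 ≤ r₀) (hte : t + 1 = r₀ ^ 2) (hs : 0 < s) (hrs : r₀ ≤ s) (hd : d ≤ s)
    (hi : i ≤ r₀ ^ 2 - r₀) (hcount : E * d * i = t * s ^ 2) : r₀ - 1 < E := by
  by_contra hcon
  push Not at hcon
  have h3 : E * d * i ≤ (r₀ - 1) * s * (r₀ ^ 2 - r₀) := Nat.mul_le_mul (Nat.mul_le_mul hcon hd) hi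
  rw [hcount] at h3
  obtain ⟨k, rfl⟩ : ∃ k, r₀ = k + 2 := ⟨r₀ - 2, by omega⟩
  have e1 : (k + 2) ^ 2 - (k + 2) = (k + 2) * (k + 1) := by
    rw [show (k + 2) ^ 2 = (k + 2) * (k + 1) + (k + 2) by ring, Nat.add_sub_cancel]
  have e2 : t = (k + 1) * (k + 3) := by
    have : t + 1 = (k + 1) * (k + 3) + 1 := by rw [hte]; ring
    omega
  rw [e1, e2, show k + 2 - 1 = k + 1 by omega] at h3
  have e3 : (k + 1) * s * ((k + 2) * (k + 1)) ≤ (k + 1) * s * (s * (k + 1)) :=
    Nat.mul_le_mul_left _ (Nat.mul_le_mul_right _ hrs)
  have e4 : (k + 1) * (k + 3) * s ^ 2 = (k + 1) * s * (s * (k + 1)) + 2 * ((k + 1) * s ^ 2) := by ring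
  have e5 : 0 < (k + 1) * s ^ 2 := by positivity
  omega

end Prod

set_option maxHeartbeats 2000000 in
/-- the affine part of case (B) -/
theorem st_baff_of (hH : HerStmt.{v}) : Cfsg.Agent.H506.Tits.StBAff.{u, v} := by
  intro G _ _ V _ _ P F Nm b hB x y hxy hy hne hA
  classical
  have hx : P.adj y x := P.symm hxy
  obtain ⟨z, -, hz, -, hzx, -, -⟩ := Cfsg.Agent.H115.Tits.exists_two P y x
  have hxz : x ≠ z := hzx.symm
  have hfin := finite_nb P y
  have hn : 4 ≤ P.n ∧ P.n = 2 * (P.n / 2) := by rcases P.hn with h | h | h <;> rw [h] <;> decide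
  obtain ⟨hn4, hn2⟩ := hn
  have hNB := nb Nm b
  obtain ⟨d, i, hd, hK, hrel, hcount, hEdvd, hiT, hsT⟩ := ndata F hB hx hz hxz hy
  obtain ⟨M, hMle, hMsub, hMcard, hMr⟩ := chainM F hB hx hz hxz hy
  have hcardN : Nat.card {w : V // P.adj y w} = P.q b + 1 := by rw [P.card_nb, hy]
  have hStb := card_Stb F (v := y) hx hz hxz
  rw [img_S hx, hy] at hStb
  obtain ⟨r₀, hr₀', W, _, _, _, φ, w₁, ι, H, hι0, hι1, hι⟩ := bridge hA (twoTr_L F y)
    (a := ⟨x, hx⟩) (b := ⟨z, hz⟩) (fun h => hxz (congrArg Subtype.val h))
  have hr₀ : r₀.Prime := Fact.out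
  have hW : Nat.card W = P.q b + 1 := by rw [Nat.card_congr ι, hcardN]
  have hVe := card_V (r₀ := r₀) (V := W)
  set t := P.q b with ht
  set s := P.q (!b) with hs
  set T := P.T2 y x z with hT
  set m := P.n / 2 with hm
  obtain ⟨e, he⟩ : ∃ e, finrank (ZMod r₀) W = e := ⟨_, rfl⟩
  rw [he] at hVe
  have hte : t + 1 = r₀ ^ e := by rw [← hW, hVe]
  have ht2 : 2 ≤ t := hNB.two_t
  have hs2 : 2 ≤ s := hNB.two_s
  have hcardT : Nat.card (stab φ w₁) = T := by
    have h1 := H.card_A
    rw [hStb, hW, Nat.add_sub_cancel] at h1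
    exact (Nat.eq_of_mul_eq_mul_left (by omega) h1).symm
  have hT0 : 0 < T := by rw [← hcardT]; exact Nat.card_pos
  have hd0 : 0 < d := Nat.pos_of_dvd_of_pos hd (by omega)
  have hi0 : 0 < i := Nat.pos_of_dvd_of_pos hiT hT0
  have hE0 : 0 < Nat.card (EB P y) := Nat.card_pos
  -- `r₀ ∣ d`
  have hr₀d : r₀ ∣ d := by
    by_contra hcon
    refine Cfsg.Agent.H115.Tits.complement' F hB hy hx hne hA hr₀ (e := e) ?_ (by rw [hrel]; exact hcon)
    rw [hy]; exact hte
  have hr₀s : r₀ ∣ s := hr₀d.trans hd
  have hr₀s' : r₀ ≤ s := Nat.le_of_dvd (by omega) hr₀s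
  -- small dimension
  rcases Nat.lt_or_ge e 3 with he3 | he3
  · obtain rfl | rfl | rfl : e = 0 ∨ e = 1 ∨ e = 2 := by omega
    · rw [pow_zero] at hte; omega
    · have h1 := H.card_stab_dvd (d := 0) he
      rw [Finset.univ_eq_empty, Finset.prod_empty, hcardT] at h1
      have h2 := Nat.dvd_one.1 (hsT.trans h1)
      omega
    · have h1 := H.card_stab_dvd (d := 1) he
      rw [Fin.prod_univ_one, hcardT] at h1
      simp only [Fin.val_zero, zero_add, pow_one, Nat.reduceAdd] at h1
      obtain ⟨hn, hr2⟩ := num_two hr₀ hte (hsT.trans h1) hr₀s hNB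
      have hm2 : m = 2 := by rw [hm, hn]
      rw [hm2] at hcount hEdvd
      simp only [Nat.add_one_sub_one, pow_one, Nat.sub_self, pow_zero, mul_one] at hcount hEdvd
      -- `|E| d i = t s^2`
      have hE : r₀ - 1 < Nat.card (EB P y) := num_E2 hr₀.two_le hte (by omega) hr₀s' (Nat.le_of_dvd (by omega) hd)
        (Nat.le_of_dvd (by
          have := hr₀.two_le
          have h5 : r₀ < r₀ ^ 2 := by nlinarith
          omega) (hiT.trans h1)) hcount
      obtain ⟨p, hp, hpE⟩ := Nat.exists_prime_and_dvd (n := Nat.card (EB P y)) (by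
        have := hr₀.two_le
        omega)
      have h3 := n4 F hB hn hx hy H hι0 hι (Or.inr (by
        intro k hk0 hk
        rw [he] at hk
        obtain rfl : k = 1 := by omega
        rw [pow_one]
        intro h4
        have := Nat.le_of_dvd (by have := hr₀.two_le; omega) h4
        omega)) hp hpE
      have h4 : p ∣ t := hpE.trans hEdvd
      have h5 : t = (r₀ - 1) * (r₀ + 1) := by
        obtain ⟨k, rfl⟩ : ∃ k, r₀ = k + 2 := ⟨r₀ - 2, by have := hr₀.two_le; omega⟩
        have : t + 1 = (k + 1) * (k + 3) + 1 := by rw [hte]; ring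
        rw [show k + 2 - 1 = k + 1 by omega, show k + 2 + 1 = k + 3 by omega]
        omega
      rw [h5] at h4
      rcases hp.dvd_mul.1 h4 with h6 | h6
      · have := Nat.le_of_dvd (by have := hr₀.two_le; omega) h6
        omega
      · obtain ⟨c, hc⟩ := h6
        have hc1 : c = 1 := by
          rcases Nat.lt_or_ge c 2 with h7 | h7
          · interval_cases c
            · omega
            · rfl
          · have : p * 2 ≤ p * c := Nat.mul_le_mul_left _ h7
            have := hr₀.two_le
            omega
        rw [hc1, mul_one] at hc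
        -- `p = r₀ + 1`
        rcases hr₀.eq_two_or_odd with h7 | h7
        · exact hr2 h7
        · rcases hp.eq_two_or_odd with h8 | h8
          · have := hr₀.two_le
            omega
          · omega
  · -- `e ≥ 3`
    obtain ⟨e', rfl⟩ : ∃ e', e = e' + 1 := ⟨e - 1, by omega⟩
    have hTdvd := H.card_stab_dvd (d := e') he
    rw [hcardT] at hTdvd
    have hMsub' : (M.subgroupOf (Stb (P.L y) ⟨x, hx⟩)).IsSubnormal := hMsub
    have hMc' : Nat.card (M.subgroupOf (Stb (P.L y) ⟨x, hx⟩)) = Nat.card M :=
      Nat.card_congr (Subgroup.subgroupOfEquivOfLe hMle).toEquiv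
    by_cases h26 : r₀ = 2 ∧ e' + 1 = 6
    · -- the case of dimension six over the field with two elements
      obtain ⟨rfl, h6⟩ := h26
      obtain rfl : e' = 5 := by omega
      have ht63 : t = 63 := by
        have : t + 1 = 64 := by rw [hte]; norm_num
        omega
      have hTN : T ∣ N26 := by
        refine hTdvd.trans (dvd_of_eq ?_)
        rw [Fin.prod_univ_five]
        norm_num [N26]
      have hsN : s ∣ N26 := hsT.trans hTN
      rw [ht63] at hNB
      rcases num_two_six hsN hr₀s hNB with ⟨hn, h8, h3s⟩ | ⟨hn, h252⟩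
      · -- quadrangles
        have hm2 : m = 2 := by rw [hm, hn]
        rw [hm2] at hcount hEdvd
        simp only [Nat.add_one_sub_one, pow_one, Nat.sub_self, pow_zero, mul_one] at hcount hEdvd
        rw [ht63] at hEdvd hcount
        have hE1 : Nat.card (EB P y) ≠ 1 := by
          intro h1
          rw [h1, one_mul] at hcount
          obtain ⟨c, hc⟩ := hd
          have h2 : i = 63 * s * c := by
            apply Nat.eq_of_mul_eq_mul_left hd0
            rw [hcount, hc]; ring
          have h3 : 27 ∣ N26 := by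
            refine dvd_trans ?_ (hiT.trans hTN)
            rw [h2]
            obtain ⟨k, hk⟩ := h3s
            rw [hk]
            exact ⟨7 * k * c, by ring⟩
          revert h3
          unfold N26
          norm_num
        obtain ⟨p, hp, hpE⟩ := Nat.exists_prime_and_dvd hE1
        have hp7 : p ≤ 7 := by
          have h1 : p ∣ 3 ^ 2 * 7 := hpE.trans (hEdvd.trans (by norm_num))
          rcases hp.dvd_mul.1 h1 with h2 | h2
          · have := Nat.le_of_dvd (by norm_num) (hp.dvd_of_dvd_pow h2)
            omega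
          · exact Nat.le_of_dvd (by norm_num) h2
        have h3 := n4 F hB hn hx hy H hι0 hι (by
          by_cases hpr : (Nat.card (EB P y)).Prime
          · left
            have : Fact (Nat.card (EB P y)).Prime := ⟨hpr⟩
            have hcyc : IsCyclic (EB P y) := isCyclic_of_prime_card rfl
            intro a ha c hc
            have := hcyc.isMulCommutative
            exact congrArg Subtype.val (this.is_comm.comm (⟨a, ha⟩ : EB P y) ⟨c, hc⟩)
          · right
            intro k hk0 hk
            rw [he] at hk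
            have h5 : Nat.card (EB P y) ∈ Nat.divisors 63 := Nat.mem_divisors.2 ⟨hEdvd, by norm_num⟩
            have h6 : Nat.divisors 63 = {1, 3, 7, 9, 21, 63} := by decide +kernel
            rw [h6] at h5
            simp only [Finset.mem_insert, Finset.mem_singleton] at h5
            rcases h5 with h5 | h5 | h5 | h5 | h5 | h5
            · exact absurd h5 hE1
            · exact absurd (by rw [h5]; norm_num) hpr
            · exact absurd (by rw [h5]; norm_num) hpr
            all_goals
              rw [h5]
              interval_cases k <;> norm_num) hp hpE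
        omega
      · -- hexagons and octagons
        have hT63 : ∀ r : ℕ, r.Prime → r ∣ 63 → T.factorization r ≤ s.factorization r := by
          intro r hr hr63
          have h1 : r = 3 ∨ r = 7 := by
            have h1 : r ∣ 3 ^ 2 * 7 := hr63
            rcases hr.dvd_mul.1 h1 with h2 | h2
            · left; exact (Nat.prime_dvd_prime_iff_eq hr Nat.prime_three).1 (hr.dvd_of_dvd_pow h2)
            · right; exact (Nat.prime_dvd_prime_iff_eq hr (by norm_num)).1 h2
          have hN0 : N26 ≠ 0 := by unfold N26; norm_num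
          refine ((Nat.factorization_le_iff_dvd hT0.ne' hN0).2 hTN r).trans ?_
          have hs63 : 63 ∣ s := by rcases h252 with h | h <;> rw [h] <;> norm_num
          have h3 : (63 : ℕ).factorization r ≤ s.factorization r :=
            (Nat.factorization_le_iff_dvd (by norm_num) (by omega)).2 hs63 r
          refine le_trans (le_of_eq ?_) h3
          have h4 : N26 = 63 * (2 ^ 15 * 5 * 31) := by unfold N26; norm_num
          rw [h4, Nat.factorization_mul (by norm_num) (by norm_num), Finsupp.add_apply,
            Nat.factorization_eq_zero_of_not_dvd (n := 2 ^ 15 * 5 * 31), add_zero]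
          rcases h1 with rfl | rfl <;> norm_num
        have hM63 : Nat.card M = 63 := by
          have h1 : Nat.card M ∣ 63 := by rw [← ht63]; exact hMcard
          apply Nat.eq_of_factorization_eq Nat.card_pos.ne' (by norm_num)
          intro r
          by_cases hr : r.Prime
          · by_cases hr63 : r ∣ 63
            · rw [hMr r hr (hT63 r hr hr63), ht63]
            · rw [Nat.factorization_eq_zero_of_not_dvd hr63,
                Nat.factorization_eq_zero_of_not_dvd (fun h => hr63 (h.trans h1))]
          · rw [Nat.factorization_eq_zero_of_not_prime _ hr, Nat.factorization_eq_zero_of_not_prime _ hr]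
        -- a normal Sylow 7-subgroup
        have : Fact (Nat.Prime 7) := ⟨by norm_num⟩
        set M' := M.subgroupOf (Stb (P.L y) ⟨x, hx⟩) with hM'
        rw [hM63] at hMc'
        obtain ⟨S⟩ : Nonempty (Sylow 7 M') := inferInstance
        have hSn : (S : Subgroup M').Normal := by
          have h1 := card_sylow_modEq_one 7 M'
          have h2 : Nat.card (Sylow 7 M') ∣ 9 := by
            have h3 := S.card_dvd_index
            have h4 : (S : Subgroup M').index = 9 := by
              have h5 := (S : Subgroup M').card_mul_index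
              rw [S.card_eq_multiplicity, hMc'] at h5
              have h6 : (63 : ℕ).factorization 7 = 1 := by
                rw [show (63 : ℕ) = 7 ^ 1 * 9 by norm_num, Nat.factorization_mul (by norm_num) (by norm_num),
                  Finsupp.add_apply, Nat.Prime.factorization_pow (by norm_num)]
                simp [Nat.factorization_eq_zero_of_not_dvd]
              rw [h6] at h5
              omega
            rwa [h4] at h3
          have h3 : Nat.card (Sylow 7 M') = 1 := by
            have h4 : Nat.card (Sylow 7 M') ∈ Nat.divisors 9 := Nat.mem_divisors.2 ⟨h2, by norm_num⟩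
            have h5 : Nat.divisors 9 = {1, 3, 9} := by decide +kernel
            rw [h5] at h4
            simp only [Finset.mem_insert, Finset.mem_singleton] at h4
            rcases h4 with h | h | h
            · exact h
            · rw [h] at h1; exact absurd h1 (by decide)
            · rw [h] at h1; exact absurd h1 (by decide)
          have : Subsingleton (Sylow 7 M') := (Nat.card_eq_one_iff_unique.1 h3).1
          exact S.normal_of_subsingleton
        have hD : (S : Subgroup M').map M'.subtype ≤ Cfsg.pCore 7 ↥(Stb (P.L y) ⟨x, hx⟩) := by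
          refine Cfsg.Agent.PLocal.SubnormalCore.le_pCore_of_normal_subnormal (K := M') (Subgroup.map_subtype_le _) ?_
            hMsub' (S.isPGroup'.map _)
          rw [Subgroup.subgroupOf, Subgroup.comap_map_eq_self_of_injective M'.subtype_injective]
          exact hSn
        have hQ1 : Cfsg.pCore 7 ↥(Stb (P.L y) ⟨x, hx⟩) ≠ ⊥ := by
          intro h
          rw [h, le_bot_iff, Subgroup.map_eq_bot_iff_of_injective _ M'.subtype_injective] at hD
          have h1 := S.card_eq_multiplicity
          rw [hD, Subgroup.card_bot, hMc'] at h1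
          have h6 : (63 : ℕ).factorization 7 = 1 := by
            rw [show (63 : ℕ) = 7 ^ 1 * 9 by norm_num, Nat.factorization_mul (by norm_num) (by norm_num),
              Finsupp.add_apply, Nat.Prime.factorization_pow (by norm_num)]
            simp [Nat.factorization_eq_zero_of_not_dvd]
          rw [h6] at h1
          omega
        refine TL.six H (p := 7) (by norm_num) (Cfsg.Agent.Lib.Cores.pCore_normal 7) hQ1
          (Cfsg.Agent.Lib.Cores.pCore_isPGroup 7) ?_ he
        intro r hr hr7
        rw [hcardT, hW, Nat.add_sub_cancel, ht63]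
        by_cases hr63 : r ∣ 63
        · have hs63 : 63 ∣ s := by rcases h252 with h | h <;> rw [h] <;> norm_num
          exact (Nat.factorization_le_iff_dvd (by norm_num) hT0.ne').2 (hs63.trans hsT) r
        · rw [Nat.factorization_eq_zero_of_not_dvd hr63]
          exact Nat.zero_le _
    · -- a primitive prime divisor
      obtain ⟨r, hr, hrd, -, -⟩ := Cfsg.Agent.Lib.Zsigmondy.exists_primitive hr₀.two_le (n := e' + 1) (by omega)
        (by omega) h26
      have hrT : ¬ r ∣ T := fun h => prim_not_dvd hr₀ hr hrd (h.trans hTdvd)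
      have hfT : T.factorization r = 0 := Nat.factorization_eq_zero_of_not_dvd hrT
      have h1 := herM hH H he he3 hr hrd hMsub' (by rw [hMc', hW, Nat.add_sub_cancel]; exact hMcard) (by
        rw [hMc', hStb, hMr r hr (by rw [hfT]; exact Nat.zero_le _),
          Nat.factorization_mul (by omega) hT0.ne', Finsupp.add_apply, hfT, add_zero])
      rw [hcardT] at h1
      rcases h1 with h1 | ⟨rfl, h4, h48⟩
      · exact num_dvd hr₀ he3 h26 hte (hsT.trans h1) hr₀s hNB
      · obtain rfl : e' = 3 := by omega
        have ht80 : t = 80 := by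
          have : t + 1 = 81 := by rw [hte]; norm_num
          omega
        rw [ht80] at hNB
        obtain ⟨hn, hs48⟩ := num_three_four (hsT.trans h48) hr₀s hNB
        have hm2 : m = 2 := by rw [hm, hn]
        rw [hm2] at hcount hEdvd
        simp only [Nat.add_one_sub_one, pow_one, Nat.sub_self, pow_zero, mul_one] at hcount hEdvd
        rw [ht80] at hEdvd hcount
        rw [hs48] at hcount hd
        have hE : Nat.card (EB P y) = 80 := by
          apply Nat.dvd_antisymm hEdvd
          have hi48 : i ∣ 48 := hiT.trans h48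
          obtain ⟨c, hc⟩ := hi48
          obtain ⟨c', hc'⟩ := hd
          refine ⟨c * c', ?_⟩
          have h5 : Nat.card (EB P y) * (d * i) = 80 * c * c' * (d * i) := by
            rw [← mul_assoc, hcount]
            have : 48 ^ 2 = (i * c) * (d * c') := by rw [← hc, ← hc']; norm_num
            rw [this]; ring
          rw [← mul_assoc]
          exact Nat.eq_of_mul_eq_mul_right (Nat.mul_pos hd0 hi0) h5
        have h5 := n4 F hB hn hx hy H hι0 hι (Or.inr (by
          intro k hk0 hk
          rw [he] at hk
          rw [hE]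
          interval_cases k <;> norm_num)) Nat.prime_five (by rw [hE]; norm_num)
        omega

end Cfsg.Agent.H263.TW
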