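import Cfsg.Agent.H263.TW.AffB
import Cfsg.Agent.S3695

/-!
# S3414, case (B): the affine case, with Hering's theorem (helper263)
-/

set_option autoImplicit false

namespace Cfsg.Agent.H263.TW

universe u v

theorem herStmt : HerStmt.{v} := by
  intro r₀ _ V _ _ _ n hn h1 H hadd hsemi htrans
  exact Cfsg.Agent.S3695.result r₀ n (ZMod.card r₀) hn h1 H hadd hsemi htrans

/-- **The affine part of case (B).** -/
theorem st_baff : Cfsg.Agent.H506.Tits.StBAff.{u, v} := st_baff_of herStmt

end Cfsg.Agent.H263.TW
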