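import Cfsg.Agent.H263.TW.Chain
import Cfsg.Agent.H23.FreeAct
import Cfsg.Agent.H115.Tits.Kill

/-!
# S3414, case (B), affine: the chain lemma for all primes and the numerical data (helper263)
-/

set_option autoImplicit false
set_option linter.unusedSectionVars false
set_option linter.style.haveILetI false

namespace Cfsg.Agent.H263.TW

open Subgroup Cfsg.Agent.H873.Tits

universe u v

/-- a group of permutations fixing `a` and semiregular on the remaining points -/
theorem card_dvd_of_semireg {Ω : Type v} [Finite Ω] {M : Subgroup (Equiv.Perm Ω)} {a : Ω} (ha : ∀ g ∈ M, g a = a)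
    (h : ∀ g ∈ M, ∀ u, u ≠ a → g u = u → g = 1) : Nat.card M ∣ Nat.card Ω - 1 := by
  classical
  let _ : MulAction ↥M {u : Ω // u ≠ a} :=
    { smul := fun g u => ⟨(g : Equiv.Perm Ω) u.1, fun h1 => u.2 ((g : Equiv.Perm Ω).injective
        (h1.trans (ha g g.2).symm))⟩
      one_smul := fun u => Subtype.ext rfl
      mul_smul := fun g h u => Subtype.ext rfl }
  have h1 := Cfsg.Agent.H23.FreeAct.card_dvd_of_free (D := ↥M) (α := {u : Ω // u ≠ a}) (by
    intro d u h2
    exact Subtype.ext (h d d.2 u.1 u.2 (congrArg Subtype.val h2)))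
  have h2 : Nat.card {u : Ω // u ≠ a} = Nat.card Ω - 1 := by
    have h4 : {u : Ω | u ≠ a} = ({a} : Set Ω)ᶜ := rfl
    change Nat.card {u : Ω | u ≠ a} = _
    rw [h4, Nat.card_coe_set_eq, Set.ncard_compl, Set.ncard_singleton]
  rwa [h2] at h1

section Geo

variable {G : Type u} [Group G] [Finite G] {V : Type v} [MulAction G V] {P : Pol G V} {b : Bool}

/-- **The numerical data.** -/
theorem ndata (F : Facts P) (hB : CaseB P b) {x y z : V} (hx : P.adj y x) (hz : P.adj y z) (hxz : x ≠ z)
    (hy : P.tp y = b) :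
    ∃ d i : ℕ, d ∣ P.q (!b) ∧ Nat.card (P.K y) = Nat.card (EB P y) * d ∧
      (P.K x ⊓ P.K y).relIndex (P.K y) = d ∧
      Nat.card (EB P y) * d * i = P.q b ^ (P.n / 2 - 1) * P.q (!b) ^ (P.n / 2) ∧
      Nat.card (EB P y) ∣ P.q b ^ (P.n / 2 - 1) * P.q (!b) ^ (P.n / 2 - 2) ∧ i ∣ P.T2 y x z ∧ P.q (!b) ∣ P.T2 y x z := by
  have hn : 4 ≤ P.n ∧ P.n = 2 * (P.n / 2) := by rcases P.hn with h | h | h <;> rw [h] <;> decide
  obtain ⟨hn4, hn2⟩ := hn
  -- the path
  obtain ⟨p, hp, hpe⟩ := F.extend (k := 2) (p := fun i => if i = 0 then z else if i = 1 then y else x) (by omega)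
    ⟨fun i hi => by
      have : i = 0 ∨ i = 1 := by omega
      rcases this with rfl | rfl
      · simpa using P.symm hz
      · simpa using hx, fun i hi => by
      obtain rfl : i = 0 := by omega
      simpa using hxz⟩
  have hp0 : p 0 = z := by simpa using hpe 0 (by omega)
  have hp1 : p 1 = y := by simpa using hpe 1 (by omega)
  have hp2 : p 2 = x := by simpa using hpe 2 (by omega)
  have hb : P.tp (p 1) = b := by rw [hp1]; exact hy
  obtain ⟨y', hy'⟩ := F.exists_opp y
  have hT := caseB_T2 F hB hp hb (by rw [hp1]; exact hy')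
  rw [hp0, hp1, hp2, T2_symm] at hT
  have hcount := caseB_idx F hB hy hy'
  obtain ⟨d, hd, hK⟩ := caseB_card_K F hB hy hx (w := p 3) (by rw [← hp2]; exact hp.1 2 (by omega))
    (by rw [← hp1]; exact hp.2 1 (by omega))
  have hE := EB_eq hB hy (P.symm hx)
  have hEdvd := F.caseB_card hB hy (P.symm hx)
  rw [hE] at hEdvd ⊢
  have hE0 : 0 < Nat.card (EB P y) := Nat.card_pos
  have hi : P.idx y y' ∣ P.T2 y x z := by rw [hT]; exact Dvd.intro _ rfl
  rw [hK] at hcount
  refine ⟨d, P.idx y y', hd, hK, ?_, by rw [← hcount]; ring, hEdvd, hi, ?_⟩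
  · have h3 := Subgroup.card_mul_index ((EB P y).subgroupOf (P.K y))
    rw [Nat.card_congr (Subgroup.subgroupOfEquivOfLe (EB_le_K (P := P) y)).toEquiv, hK] at h3
    exact Nat.eq_of_mul_eq_mul_left hE0 h3
  · refine dvd_trans ?_ hi
    have hs0 : 0 < P.q (!b) := by have := P.two_le (!b); omega
    have ht0 : 0 < P.q b := by have := P.two_le b; omega
    -- `|E| d ∣ t^(m-1) s^(m-1)`
    obtain ⟨c, hc⟩ := mul_dvd_mul hEdvd hd
    have e1 : P.q b ^ (P.n / 2 - 1) * P.q (!b) ^ (P.n / 2 - 2) * P.q (!b) =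
        P.q b ^ (P.n / 2 - 1) * P.q (!b) ^ (P.n / 2 - 1) := by
      rw [mul_assoc, ← pow_succ]
      congr 2
      omega
    have e2 : P.q b ^ (P.n / 2 - 1) * P.q (!b) ^ (P.n / 2) =
        P.q b ^ (P.n / 2 - 1) * P.q (!b) ^ (P.n / 2 - 1) * P.q (!b) := by
      rw [mul_assoc, ← pow_succ]
      congr 2
      omega
    rw [e1] at hc
    rw [e2, hc] at hcount
    have hEd0 : 0 < Nat.card (EB P y) * d := by
      rw [← hK]; exact Nat.card_pos
    refine ⟨c, ?_⟩
    apply Nat.eq_of_mul_eq_mul_left hEd0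
    calc Nat.card (EB P y) * d * P.idx y y' = P.idx y y' * (Nat.card (EB P y) * d) := by ring
      _ = Nat.card (EB P y) * d * c * P.q (!b) := hcount
      _ = Nat.card (EB P y) * d * (P.q (!b) * c) := by ring

/-- **The chain lemma for all primes.** -/
theorem chainM (F : Facts P) (hB : CaseB P b) {x y z : V} (hx : P.adj y x) (hz : P.adj y z) (hxz : x ≠ z)
    (hy : P.tp y = b) :
    ∃ M : Subgroup (Equiv.Perm {w : V // P.adj y w}), M ≤ Stb (P.L y) ⟨x, hx⟩ ∧
      (M.subgroupOf (Stb (P.L y) ⟨x, hx⟩)).IsSubnormal ∧ Nat.card M ∣ P.q b ∧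
      ∀ r : ℕ, r.Prime → (P.T2 y x z).factorization r ≤ (P.q (!b)).factorization r →
        (Nat.card M).factorization r = (P.q b).factorization r := by
  have hn : 4 ≤ P.n ∧ P.n = 2 * (P.n / 2) := by rcases P.hn with h | h | h <;> rw [h] <;> decide
  obtain ⟨hn4, hn2⟩ := hn
  obtain ⟨d, i, hd, hK, -, hcount, hEdvd, hiT, -⟩ := ndata F hB hx hz hxz hy
  -- the path
  obtain ⟨p, hp, hpe⟩ := F.extend (k := 2) (p := fun i => if i = 0 then z else if i = 1 then y else x) (by omega)
    ⟨fun i hi => by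
      have : i = 0 ∨ i = 1 := by omega
      rcases this with rfl | rfl
      · simpa using P.symm hz
      · simpa using hx, fun i hi => by
      obtain rfl : i = 0 := by omega
      simpa using hxz⟩
  have hp0 : p 0 = z := by simpa using hpe 0 (by omega)
  have hp1 : p 1 = y := by simpa using hpe 1 (by omega)
  have hp2 : p 2 = x := by simpa using hpe 2 (by omega)
  have hb : P.tp (p 1) = b := by rw [hp1]; exact hy
  have hfin := finite_nb P y
  have hqb : P.q b ≠ 0 := by have := P.two_le b; omega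
  have hqb' : P.q (!b) ≠ 0 := by have := P.two_le (!b); omega
  have hE0 : Nat.card (EB P y) ≠ 0 := Nat.card_pos.ne'
  have hd0 : d ≠ 0 := fun h => hqb' (Nat.eq_zero_of_zero_dvd (h ▸ hd))
  have hrhs0 : P.q b ^ (P.n / 2 - 1) * P.q (!b) ^ (P.n / 2) ≠ 0 := by positivity
  have hi0 : i ≠ 0 := fun h => by rw [h, mul_zero] at hcount; exact hrhs0 hcount.symm
  have hStb := card_Stb F (v := y) hx hz hxz
  have hT0 : P.T2 y x z ≠ 0 := by
    intro h
    rw [h, mul_zero] at hStb
    exact Nat.card_pos.ne' hStb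
  have hMcard : Nat.card ↥(P.img (p 1) (J P p 3 (P.n / 2 - 2))) ∣ P.q b ∧
      (∀ g ∈ P.img (p 1) (J P p 3 (P.n / 2 - 2)), ∀ u : {w : V // P.adj (p 1) w}, u.1 ≠ p 2 → g u = u → g = 1) := by
    have hse : ∀ g ∈ J P p 3 (P.n / 2 - 2), ∀ u, P.adj (p 1) u → u ≠ p 2 → g • u = u → g = 1 :=
      fun g hg u hu hne h => J_semireg F hp hg hu hne h
    have hfin1 := finite_nb P (p 1)
    have h12 := hp.1 1 (by omega)
    have hs : ∀ g ∈ P.img (p 1) (J P p 3 (P.n / 2 - 2)), ∀ u : {w : V // P.adj (p 1) w}, u.1 ≠ p 2 → g u = u → g = 1 := by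
      rintro g hg ⟨u, hu⟩ hne hgu
      obtain ⟨a, ha, haJ, rfl⟩ := mem_img.1 hg
      have h3 := hse a haJ u hu hne (congrArg Subtype.val hgu)
      subst h3
      exact map_one _
    refine ⟨?_, hs⟩
    have h5 := card_dvd_of_semireg (M := P.img (p 1) (J P p 3 (P.n / 2 - 2))) (a := ⟨p 2, h12⟩) (by
      intro g hg
      obtain ⟨a, ha, haJ, rfl⟩ := mem_img.1 hg
      exact Subtype.ext (((img_J_subnormal hp (k := P.n / 2 - 2) (by omega)).1 haJ).2)) (by
      intro g hg u hu hgu
      exact hs g hg u (fun h => hu (Subtype.ext h)) hgu)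
    rw [P.card_nb, hb, Nat.add_sub_cancel] at h5
    exact h5
  have key : ∀ r : ℕ, r.Prime → (P.T2 y x z).factorization r ≤ (P.q (!b)).factorization r →
        (Nat.card ↥(P.img (p 1) (J P p 3 (P.n / 2 - 2)))).factorization r = (P.q b).factorization r := by
    intro r hr hTr
    set τ := (P.q b).factorization r with hτ
    set σ := (P.q (!b)).factorization r with hσ
    set T := (P.T2 y x z).factorization r with hT
    have hiT' : i.factorization r ≤ T := (Nat.factorization_le_iff_dvd hi0 hT0).2 hiT r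
    have hdσ : d.factorization r ≤ σ := (Nat.factorization_le_iff_dvd hd0 hqb').2 hd r
    have hfac : (Nat.card (EB P y)).factorization r + d.factorization r + i.factorization r =
        (P.n / 2 - 1) * τ + (P.n / 2) * σ := by
      have h3 := congrArg (fun k : ℕ => k.factorization r) hcount
      beta_reduce at h3
      rw [Nat.factorization_mul (mul_ne_zero hE0 hd0) hi0, Nat.factorization_mul hE0 hd0,
        Nat.factorization_mul (pow_ne_zero _ hqb) (pow_ne_zero _ hqb'), Nat.factorization_pow, Nat.factorization_pow] at h3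
      simp only [Finsupp.coe_add, Pi.add_apply, Finsupp.coe_smul, Pi.smul_apply, smul_eq_mul] at h3
      exact h3
    have hStb' : (Nat.card ↥(P.img (p 1) (P.S (p 2)))).factorization r = τ + T := by
      rw [hp1, hp2, hStb, Nat.factorization_mul (by rw [hy]; exact hqb) hT0, hy]
      rfl
    have hfin1 := finite_nb P (p 1)
    have hle : ∀ k, 3 + 2 * k ≤ P.n + 1 → (Nat.card ↥(P.img (p 1) (J P p 3 k))).factorization r ≤ τ + T := by
      intro k hk
      rw [← hStb']
      have h3 := (img_J_subnormal hp hk).1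
      exact (Nat.factorization_le_iff_dvd Nat.card_pos.ne' Nat.card_pos.ne').2
        (Subgroup.card_dvd_of_le (img_mono (h3.trans inf_le_right))) r
    have hfk : ∀ k, 3 + 2 * k ≤ P.n + 1 → (Nat.card ↥(J P p 3 k)).factorization r =
        (Nat.card ↥(P.img (p 1) (J P p 3 k))).factorization r + (Nat.card ↥(J P p 1 (k + 1))).factorization r := by
      intro k hk
      have h3 := card_img ((img_J_subnormal hp hk).1.trans inf_le_left)
      rw [J_inf_K hB hp hb] at h3
      rw [← h3, Nat.factorization_mul Nat.card_pos.ne' Nat.card_pos.ne']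
      rfl
    have hsh : ∀ k, 3 + 2 * k ≤ P.n + 1 → (Nat.card ↥(J P p 1 k)).factorization r =
        (Nat.card ↥(J P p 3 k)).factorization r := by
      intro k hk
      rw [← card_J_shift hp (a := 1) (k := k) (by omega)]
    have hend : (Nat.card ↥(J P p 1 (P.n / 2 - 1))).factorization r = 0 := by
      rw [J_eq_bot F hp, Subgroup.card_bot]
      simp
    have hE1 : (Nat.card (EB P y)).factorization r = (Nat.card ↥(J P p 1 0)).factorization r := by
      rw [J, hp1]
    have hMle : (Nat.card ↥(P.img (p 1) (J P p 3 (P.n / 2 - 2)))).factorization r ≤ τ :=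
      (Nat.factorization_le_iff_dvd Nat.card_pos.ne' hqb).2 hMcard.1 r
    rcases P.hn with h | h | h
    · have e0 := hfk 0 (by omega)
      have s0 := hsh 0 (by omega)
      have l0 := hle 0 (by omega)
      rw [h] at hend hfac hMle ⊢
      norm_num at e0 hend hfac hMle ⊢
      omega
    · have e0 := hfk 0 (by omega)
      have e1 := hfk 1 (by omega)
      have s0 := hsh 0 (by omega)
      have s1 := hsh 1 (by omega)
      have l0 := hle 0 (by omega)
      have l1 := hle 1 (by omega)
      rw [h] at hend hfac hMle ⊢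
      norm_num at e0 e1 hend hfac hMle ⊢
      omega
    · have e0 := hfk 0 (by omega)
      have e1 := hfk 1 (by omega)
      have e2 := hfk 2 (by omega)
      have s0 := hsh 0 (by omega)
      have s1 := hsh 1 (by omega)
      have s2 := hsh 2 (by omega)
      have l0 := hle 0 (by omega)
      have l1 := hle 1 (by omega)
      have l2 := hle 2 (by omega)
      rw [h] at hend hfac hMle ⊢
      norm_num at e0 e1 e2 hend hfac hMle ⊢
      omega
  have hsub := img_J_subnormal hp (k := P.n / 2 - 2) (by omega)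
  subst hp1 hp2
  refine ⟨P.img (p 1) (J P p 3 (P.n / 2 - 2)), ?_, ?_, hMcard.1, key⟩
  · rw [← img_S hx]
    exact img_mono (hsub.1.trans inf_le_right)
  · rw [← img_S hx]
    exact hsub.2

end Geo

end Cfsg.Agent.H263.TW
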