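import Cfsg.Agent.H900.TWCore
import Cfsg.Agent.Lib.GenFitting

/-!
# Edges of graphs of groups: a trichotomy of Thompson-Wielandt type (helper263)

`Edge X Y K L` : `X = G_x`, `Y = G_y` are subgroups of `G` (vertex stabilisers of an edge of a graph),
`X ⊓ Y` is maximal in both, no nontrivial subgroup is normal in both, and `K`, `L` are the largest subgroups of
`X ⊓ Y` which are normal in `X`, `Y` (the kernels of the actions on the neighbours).

Main result `Edge.trichotomy` : `X` or `Y` normalises `K ⊓ L`, or for some prime `p` the group `K ⊓ L` is a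
nontrivial `p`-group and both kernels are of characteristic `p`, `C_X(O_p(K)) ≤ O_p(K)`, `O_p(K) ≰ L`, and
the same with `X`, `Y` interchanged.
-/

set_option autoImplicit false
set_option linter.style.haveILetI false

namespace Cfsg.Agent.H263.TW

open Subgroup Cfsg Cfsg.Agent.Lib Cfsg.Agent.Lib.LocalCore Cfsg.Agent.H900.TWCore
open Cfsg.Agent.SignalizersComponents

variable {G : Type*} [Group G]

/-- The configuration. -/
structure Edge (X Y K L : Subgroup G) : Prop where
  maxX : ∀ T : Subgroup G, X ⊓ Y ≤ T → T ≤ X → T = X ⊓ Y ∨ T = X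
  maxY : ∀ T : Subgroup G, X ⊓ Y ≤ T → T ≤ Y → T = X ⊓ Y ∨ T = Y
  both : ∀ T : Subgroup G, T ≤ X ⊓ Y → X ≤ normalizer (T : Set G) → Y ≤ normalizer (T : Set G) → T = ⊥
  KB : K ≤ X ⊓ Y
  XK : X ≤ normalizer (K : Set G)
  leK : ∀ T : Subgroup G, T ≤ X ⊓ Y → X ≤ normalizer (T : Set G) → T ≤ K
  LB : L ≤ X ⊓ Y
  YL : Y ≤ normalizer (L : Set G)
  leL : ∀ T : Subgroup G, T ≤ X ⊓ Y → Y ≤ normalizer (T : Set G) → T ≤ L

/-- `O_p(K)` as a subgroup of `G`. -/
def cp (p : ℕ) (K : Subgroup G) : Subgroup G := (pCore p K).map K.subtype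

theorem cp_le (p : ℕ) (K : Subgroup G) : cp p K ≤ K := map_subtype_le _

theorem cp_pGroup (p : ℕ) (K : Subgroup G) : IsPGroup p (cp p K) := isPGroup_map_pCore p K

theorem conj_mem {K : Subgroup G} {g x : G} (hg : g ∈ normalizer (K : Set G)) (hx : x ∈ K) :
    g * x * g⁻¹ ∈ K := (mem_normalizer_iff.mp hg x).mp hx

theorem conj_mem' {K : Subgroup G} {g x : G} (hg : g ∈ normalizer (K : Set G)) (hx : x ∈ K) :
    g⁻¹ * x * g ∈ K := by
  have := conj_mem (inv_mem hg) hx
  simpa using this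

theorem conj_le {K : Subgroup G} {g : G} (hg : g ∈ normalizer (K : Set G)) :
    K.map (MulAut.conj g).toMonoidHom = K := by
  ext z
  constructor
  · rintro ⟨w, hw, rfl⟩
    exact conj_mem hg hw
  · intro hz
    refine ⟨g⁻¹ * z * g, conj_mem' hg hz, by simp [mul_assoc]⟩

/-- `N_G(K)` normalises `O_p(K)`. -/
theorem normalizer_le_cp (p : ℕ) (K : Subgroup G) :
    normalizer (K : Set G) ≤ normalizer (cp p K : Set G) := by
  apply mem_normalizer_of_forall
  intro g hg y hy
  have h2 : (cp p K).map (MulAut.conj g).toMonoidHom ≤ cp p K := by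
    refine le_map_pCore ?_ ((isPGroup_map_pCore p K).map _) ?_
    · calc _ ≤ K.map (MulAut.conj g).toMonoidHom := Subgroup.map_mono (map_subtype_le _)
        _ = K := conj_le hg
    · apply mem_normalizer_of_forall
      rintro x hx _ ⟨w, hw, rfl⟩
      have hx' : g⁻¹ * x * g ∈ K := conj_mem' hg hx
      refine ⟨(g⁻¹ * x * g) * w * (g⁻¹ * x * g)⁻¹, ?_, by simp [mul_assoc]⟩
      exact conj_mem (le_normalizer_map_pCore p K hx') hw
  exact h2 ⟨y, hy, rfl⟩

/-- The normaliser of `K` normalises the image of a characteristic subgroup of `K`. -/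
theorem normalizer_le_char {K : Subgroup G} (C : Subgroup K) (hC : C.Characteristic) :
    normalizer (K : Set G) ≤ normalizer ((C.map K.subtype : Subgroup G) : Set G) := by
  apply mem_normalizer_of_forall
  rintro g hg _ ⟨x, hx, rfl⟩
  let φ : MulAut K := K.normalizerMonoidHom ⟨g, hg⟩
  have h1 : φ x ∈ C := (Subgroup.characteristic_iff_map_le.mp hC) φ (Subgroup.mem_map_of_mem _ hx)
  exact ⟨φ x, h1, rfl⟩

/-- a `p`-subgroup of `K` normalised by `K` lies in `O_p(K)`. -/
theorem le_cp {p : ℕ} {K T : Subgroup G} (hTK : T ≤ K) (hT : IsPGroup p T)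
    (hn : K ≤ normalizer (T : Set G)) : T ≤ cp p K := le_map_pCore hTK hT hn

namespace Edge

variable {X Y K L : Subgroup G}

theorem symm (h : Edge X Y K L) : Edge Y X L K where
  maxX := fun T h1 h2 => by rw [inf_comm] at h1 ⊢; exact h.maxY T h1 h2
  maxY := fun T h1 h2 => by rw [inf_comm] at h1 ⊢; exact h.maxX T h1 h2
  both := fun T h1 h2 h3 => h.both T (by rwa [inf_comm] at h1) h3 h2
  KB := by rw [inf_comm]; exact h.LB
  XK := h.YL
  leK := fun T h1 h2 => h.leL T (by rwa [inf_comm] at h1) h2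
  LB := by rw [inf_comm]; exact h.KB
  YL := h.XK
  leL := fun T h1 h2 => h.leK T (by rwa [inf_comm] at h1) h2

theorem KX (h : Edge X Y K L) : K ≤ X := h.KB.trans inf_le_left
theorem KY (h : Edge X Y K L) : K ≤ Y := h.KB.trans inf_le_right
theorem LX (h : Edge X Y K L) : L ≤ X := h.LB.trans inf_le_left
theorem LY (h : Edge X Y K L) : L ≤ Y := h.LB.trans inf_le_right

/-- `X ⊓ Y` normalises `K ⊓ L`. -/
theorem nE (h : Edge X Y K L) : X ⊓ Y ≤ normalizer ((K ⊓ L : Subgroup G) : Set G) := by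
  apply mem_normalizer_of_forall
  intro g hg x hx
  exact ⟨conj_mem (h.XK hg.1) hx.1, conj_mem (h.YL hg.2) hx.2⟩

/-- a normal subgroup of `X` outside `K` together with `X ⊓ Y` generates `X`. -/
theorem stepC (h : Edge X Y K L) {C D : Subgroup G} (hCX : C ≤ X) (hXC : X ≤ normalizer (C : Set G))
    (hCK : ¬ C ≤ K) (hCD : C ≤ normalizer (D : Set G)) (hBD : X ⊓ Y ≤ normalizer (D : Set G)) :
    X ≤ normalizer (D : Set G) := by
  have hCB : ¬ C ≤ X ⊓ Y := fun hle => hCK (h.leK C hle hXC)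
  have hT : C ⊔ (X ⊓ Y) = X := by
    rcases h.maxX (C ⊔ (X ⊓ Y)) le_sup_right (sup_le hCX inf_le_left) with h1 | h1
    · exact absurd (le_sup_left.trans h1.le) hCB
    · exact h1
  calc X = C ⊔ (X ⊓ Y) := hT.symm
    _ ≤ normalizer (D : Set G) := sup_le hCD hBD

/-- **The basic step**: if some subgroup of `X` outside `K` centralises `K / R`, `R` normal in `X`, then `X`
normalises each `X ⊓ Y`-invariant subgroup between `R` and `K`. -/
theorem step (h : Edge X Y K L) {R D Z : Subgroup G} (hXR : X ≤ normalizer (R : Set G)) (hRD : R ≤ D)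
    (hDK : D ≤ K) (hBD : X ⊓ Y ≤ normalizer (D : Set G)) (hZX : Z ≤ X) (hZK : ¬ Z ≤ K)
    (hc : ∀ z ∈ Z, ∀ k ∈ K, z * k * z⁻¹ * k⁻¹ ∈ R) : X ≤ normalizer (D : Set G) := by
  let C : Subgroup G :=
    { carrier := {x | x ∈ X ∧ ∀ k ∈ K, x * k * x⁻¹ * k⁻¹ ∈ R}
      mul_mem' := by
        rintro a b ⟨ha, ha'⟩ ⟨hb, hb'⟩
        refine ⟨mul_mem ha hb, fun k hk => ?_⟩
        have h1 := ha' _ (conj_mem (h.XK hb) hk)
        have h2 := hb' k hk
        have h3 : a * b * k * (a * b)⁻¹ * k⁻¹ =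
            (a * (b * k * b⁻¹) * a⁻¹ * (b * k * b⁻¹)⁻¹) * (b * k * b⁻¹ * k⁻¹) := by group
        rw [h3]
        exact mul_mem h1 h2
      one_mem' := ⟨one_mem X, fun k _ => by simp⟩
      inv_mem' := by
        rintro a ⟨ha, ha'⟩
        refine ⟨inv_mem ha, fun k hk => ?_⟩
        have h1 := ha' _ (conj_mem' (h.XK ha) hk)
        have h2 : a⁻¹ * k * a⁻¹⁻¹ * k⁻¹ = (a * (a⁻¹ * k * a) * a⁻¹ * (a⁻¹ * k * a)⁻¹)⁻¹ := by group
        rw [h2]
        exact inv_mem h1 }
  have hCX : C ≤ X := fun x hx => hx.1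
  have hXC : X ≤ normalizer (C : Set G) := by
    apply mem_normalizer_of_forall
    rintro g hg x ⟨hx, hx'⟩
    refine ⟨mul_mem (mul_mem hg hx) (inv_mem hg), fun k hk => ?_⟩
    have h1 := conj_mem (hXR hg) (hx' _ (conj_mem' (h.XK hg) hk))
    have h2 : g * x * g⁻¹ * k * (g * x * g⁻¹)⁻¹ * k⁻¹ =
        g * (x * (g⁻¹ * k * g) * x⁻¹ * (g⁻¹ * k * g)⁻¹) * g⁻¹ := by group
    rw [h2]
    exact h1
  have hZC : Z ≤ C := fun z hz => ⟨hZX hz, fun k hk => hc z hz k hk⟩
  refine h.stepC hCX hXC (fun hle => hZK (hZC.trans hle)) ?_ hBD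
  apply mem_normalizer_of_forall
  rintro x ⟨hx, hx'⟩ d hd
  have h1 := hRD (hx' d (hDK hd))
  have h2 : x * d * x⁻¹ = (x * d * x⁻¹ * d⁻¹) * d := by group
  rw [h2]
  exact mul_mem h1 hd

/-- A component of `L` is a component of `X ⊓ Y`. -/
theorem comp_B (h : Edge X Y K L) {C : Subgroup L} (hC : IsComponent C) :
    IsComponent ((C.map L.subtype).subgroupOf (X ⊓ Y)) := by
  have hLn : (L.subgroupOf (X ⊓ Y)).Normal :=
    normal_subgroupOf_of_le_normalizer (inf_le_right.trans h.YL)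
  have h1 : IsComponent (C.map (subgroupOfEquivOfLe h.LB).symm.toMonoidHom) :=
    Components.isComponent_map_equiv _ hC
  have h2 : IsComponent ((C.map (subgroupOfEquivOfLe h.LB).symm.toMonoidHom).map
      (L.subgroupOf (X ⊓ Y)).subtype) := Components.isComponent_map_subtype hLn.isSubnormal h1
  convert h2 using 1
  ext x
  constructor
  · intro hx
    obtain ⟨c, hc, hcx⟩ := mem_subgroupOf.mp hx
    exact ⟨_, ⟨c, hc, rfl⟩, Subtype.ext hcx⟩
  · rintro ⟨_, ⟨c, hc, rfl⟩, rfl⟩
    exact mem_subgroupOf.mpr ⟨c, hc, rfl⟩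

/-- a component of `L` outside `K` forces `X` to normalise `K ⊓ L`. -/
theorem of_component (h : Edge X Y K L) {C : Subgroup L} (hC : IsComponent C)
    (hCK : ¬ C.map L.subtype ≤ K) : X ≤ normalizer ((K ⊓ L : Subgroup G) : Set G) := by
  have hKn : (K.subgroupOf (X ⊓ Y)).Normal :=
    normal_subgroupOf_of_le_normalizer (inf_le_left.trans h.XK)
  have hCL : C.map L.subtype ≤ L := map_subtype_le _
  rcases Components.component_le_or_commutator_eq_bot (h.comp_B hC) hKn.isSubnormal with h3 | h3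
  · exfalso
    apply hCK
    intro c hc
    have h4 : (⟨c, h.LB (hCL hc)⟩ : ↥(X ⊓ Y)) ∈ (C.map L.subtype).subgroupOf (X ⊓ Y) :=
      mem_subgroupOf.mpr hc
    exact mem_subgroupOf.mp (h3 h4)
  · refine h.step (R := ⊥) (Z := C.map L.subtype) ?_ bot_le inf_le_left h.nE (hCL.trans h.LX) hCK ?_
    · intro g _
      rw [mem_normalizer_iff]
      intro x
      simp [mem_bot]
    · intro c hc k hk
      have h4 : (⟨c, h.LB (hCL hc)⟩ : ↥(X ⊓ Y)) ∈ (C.map L.subtype).subgroupOf (X ⊓ Y) :=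
        mem_subgroupOf.mpr hc
      have h5 : (⟨k, h.KB hk⟩ : ↥(X ⊓ Y)) ∈ K.subgroupOf (X ⊓ Y) := mem_subgroupOf.mpr hk
      have h6 := commutator_mem_commutator h4 h5
      rw [h3, mem_bot, commutatorElement_def] at h6
      rw [mem_bot]
      exact congrArg Subtype.val h6

/-- the layer of `L`, if contained in `K`, lies in the layer of `K`. -/
theorem layer_le (h : Edge X Y K L) (hc : ∀ C : Subgroup L, IsComponent C → C.map L.subtype ≤ K) :
    (layer L).map L.subtype ≤ (layer K).map K.subtype := by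
  rw [layer, sSup_eq_iSup', Subgroup.map_iSup]
  refine iSup_le ?_
  rintro ⟨C, hC⟩
  change C.map L.subtype ≤ _
  have hCL : C.map L.subtype ≤ L := map_subtype_le _
  have h1 := h.comp_B hC
  have h2 : (C.map L.subtype).subgroupOf (X ⊓ Y) ≤ K.subgroupOf (X ⊓ Y) :=
    Subgroup.comap_mono (hc C hC)
  have h3 := Subgroup.map_mono (f := (X ⊓ Y).subtype) (FStarNormal.component_le_layer_map h1 h2)
  rw [GenFitting.layer_subgroupOf h.KB, Subgroup.map_subgroupOf_eq_of_le (hCL.trans h.LB)] at h3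
  exact h3

/-- `[O_r(L), K] ≤ O_r(K)`. -/
theorem comm_cp (h : Edge X Y K L) (r : ℕ) {z k : G} (hz : z ∈ cp r L) (hk : k ∈ K) :
    z * k * z⁻¹ * k⁻¹ ∈ cp r K ⊓ cp r L := by
  have hB : X ⊓ Y ≤ normalizer ((K ⊓ cp r L : Subgroup G) : Set G) := by
    apply mem_normalizer_of_forall
    intro g hg x hx
    exact ⟨conj_mem (h.XK hg.1) hx.1, conj_mem (normalizer_le_cp r L (h.YL hg.2)) hx.2⟩
  have h1 : K ⊓ cp r L ≤ cp r K :=
    le_cp inf_le_left ((cp_pGroup r L).to_le inf_le_right) (h.KB.trans hB)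
  have h2 : z * k * z⁻¹ * k⁻¹ ∈ K :=
    mul_mem (conj_mem (h.XK (h.LX (cp_le r L hz))) hk) (inv_mem hk)
  have h3 : z * k * z⁻¹ * k⁻¹ ∈ cp r L := by
    have := conj_mem (normalizer_le_cp r L (h.YL (h.KY hk))) (inv_mem hz)
    have h4 := mul_mem hz this
    simpa [mul_assoc] using h4
  exact ⟨h1 ⟨h2, h3⟩, h3⟩

/-- if `O_r(L) ≰ K` and `O_r(K) ≤ L`, then `X` normalises `K ⊓ L`. -/
theorem of_cp (h : Edge X Y K L) {r : ℕ} (h1 : ¬ cp r L ≤ K) (h2 : cp r K ≤ L) :
    X ≤ normalizer ((K ⊓ L : Subgroup G) : Set G) :=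
  h.step (h.XK.trans (normalizer_le_cp r K)) (le_inf (cp_le r K) h2) inf_le_left h.nE
    ((cp_le r L).trans h.LX) h1 fun _ hz _ hk => (h.comm_cp r hz hk).1

/-- if `O_r(L) ≰ K` then `X` normalises `O^r(K ⊓ L)`. -/
theorem of_cp_res (h : Edge X Y K L) {r : ℕ} (h1 : ¬ cp r L ≤ K) :
    X ≤ normalizer ((res r (K ⊓ L) : Subgroup G) : Set G) := by
  have hKE : K ≤ normalizer ((K ⊓ L : Subgroup G) : Set G) := h.KB.trans h.nE
  have hcE : cp r K ≤ normalizer ((K ⊓ L : Subgroup G) : Set G) := (cp_le r K).trans hKE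
  have hD : X ≤ normalizer ((cp r K ⊔ (K ⊓ L) : Subgroup G) : Set G) := by
    refine h.step (h.XK.trans (normalizer_le_cp r K)) le_sup_left (sup_le (cp_le r K) inf_le_left) ?_
      ((cp_le r L).trans h.LX) h1 fun _ hz _ hk => (h.comm_cp r hz hk).1
    intro g hg
    have ha : (cp r K).map (MulAut.conj g).toMonoidHom = cp r K :=
      conj_le (normalizer_le_cp r K (h.XK hg.1))
    have hb : (K ⊓ L).map (MulAut.conj g).toMonoidHom = K ⊓ L := conj_le (h.nE hg)
    rw [mem_normalizer_iff]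
    intro x
    have hc : (cp r K ⊔ (K ⊓ L)).map (MulAut.conj g).toMonoidHom = cp r K ⊔ (K ⊓ L) := by
      rw [Subgroup.map_sup, ha, hb]
    constructor
    · intro hx
      rw [← hc]
      exact ⟨x, hx, rfl⟩
    · intro hx
      rw [← hc] at hx
      obtain ⟨w, hw, hw'⟩ := hx
      have : w = x := by
        have h5 : g * w * g⁻¹ = g * x * g⁻¹ := hw'
        simpa using h5
      rwa [← this]
  have hres : ∀ x : G, x ∈ cp r K ⊔ (K ⊓ L) → (orderOf x).Coprime r → x ∈ K ⊓ L := by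
    intro x hx hc
    obtain ⟨n, hn⟩ := pow_mem_of_mem_sup (cp_pGroup r K) hcE hx
    exact mem_of_pow_mem_of_coprime hc hn
  have hEle : K ⊓ L ≤ cp r K ⊔ (K ⊓ L) := le_sup_right
  apply mem_normalizer_of_forall
  intro g hg y hy
  refine conj_mem_of_gen (fun x hx hc => mem_res (hres _ ?_ ?_) ?_) hy
  · exact conj_mem (hD hg) (hEle hx)
  · rwa [orderOf_conj']
  · rwa [orderOf_conj']

/-- if no `O_r` and no component leaves the other kernel then `K = ⊥`. -/
theorem exists_cp [Finite G] (h : Edge X Y K L) (h1 : ¬ X ≤ normalizer ((K ⊓ L : Subgroup G) : Set G))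
    (h2 : ¬ Y ≤ normalizer ((K ⊓ L : Subgroup G) : Set G)) :
    ∃ p : ℕ, p.Prime ∧ ¬ cp p L ≤ K ∧ ¬ cp p K ≤ L := by
  by_contra hno
  push Not at hno
  have h2' : ¬ Y ≤ normalizer ((L ⊓ K : Subgroup G) : Set G) := by rwa [inf_comm]
  have hr1 : ∀ r : ℕ, r.Prime → cp r L ≤ K := by
    intro r hr
    by_contra hc
    exact h1 (h.of_cp hc (hno r hr hc))
  have hr2 : ∀ r : ℕ, r.Prime → cp r K ≤ L := by
    intro r hr
    by_contra hc
    exact h2' (h.symm.of_cp hc (hr1 r hr))
  have hK0 : ∀ r : ℕ, r.Prime → pCore r K = ⊥ := by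
    intro r hr
    have ha : cp r K ≤ cp r L := le_cp (hr2 r hr) (cp_pGroup r K)
      (h.LX.trans (h.XK.trans (normalizer_le_cp r K)))
    have hb : cp r L ≤ cp r K := le_cp (hr1 r hr) (cp_pGroup r L)
      (h.KY.trans (h.YL.trans (normalizer_le_cp r L)))
    have hab : cp r K = cp r L := le_antisymm ha hb
    have h3 : cp r K = ⊥ := h.both _ ((cp_le r K).trans h.KB) (h.XK.trans (normalizer_le_cp r K))
      (by rw [hab]; exact h.YL.trans (normalizer_le_cp r L))
    rwa [cp, Subgroup.map_eq_bot_iff_of_injective _ K.subtype_injective] at h3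
  have hl : layer K = ⊥ := by
    have ha : (layer L).map L.subtype ≤ (layer K).map K.subtype :=
      h.layer_le fun C hC => by
        by_contra hc
        exact h1 (h.of_component hC hc)
    have hb : (layer K).map K.subtype ≤ (layer L).map L.subtype :=
      h.symm.layer_le fun C hC => by
        by_contra hc
        exact h2' (h.symm.of_component hC hc)
    have hab := le_antisymm hb ha
    have h3 : (layer K).map K.subtype = ⊥ := by
      refine h.both _ ((map_subtype_le _).trans h.KB) (h.XK.trans ?_) ?_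
      · exact normalizer_le_char _ (Components.layer_characteristic K)
      · rw [hab]
        exact h.YL.trans (normalizer_le_char _ (Components.layer_characteristic L))
    rwa [Subgroup.map_eq_bot_iff_of_injective _ K.subtype_injective] at h3
  have hF : fittingSubgroup K = ⊥ := by
    rw [Cores.fittingSubgroup_eq_iSup_pCore, iSup_eq_bot]
    intro p
    exact hK0 p p.2
  have hG : generalizedFittingSubgroup K = ⊥ := by
    rw [generalizedFittingSubgroup, hl, hF, bot_sup_eq]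
  have h4 := GenFitting.centralizer_genFitting_le (G := K)
  have h5 : (⊤ : Subgroup K) ≤ ⊥ := by
    calc (⊤ : Subgroup K) ≤ centralizer (generalizedFittingSubgroup K : Set K) := by
          rw [hG]
          intro x _
          rw [mem_centralizer_iff]
          intro y hy
          rw [SetLike.mem_coe, mem_bot] at hy
          rw [hy, one_mul, mul_one]
      _ ≤ ⊥ := by rwa [hG] at h4 ⊢
  apply h1
  have hKb : K = ⊥ := by
    rw [eq_bot_iff]
    intro x hx
    have : (⟨x, hx⟩ : K) ∈ (⊥ : Subgroup K) := h5 trivial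
    rw [mem_bot] at this ⊢
    exact congrArg Subtype.val this
  rw [hKb, bot_inf_eq]
  intro g _
  rw [mem_normalizer_iff]
  intro x
  simp [mem_bot]

/-- one half of the description of the generic case. -/
theorem charP [Finite G] (h : Edge X Y K L) {p : ℕ} (hp : p.Prime)
    (hE : IsPGroup p (K ⊓ L : Subgroup G)) (hE0 : K ⊓ L ≠ ⊥)
    (h1 : ¬ X ≤ normalizer ((K ⊓ L : Subgroup G) : Set G))
    (h2 : ¬ Y ≤ normalizer ((K ⊓ L : Subgroup G) : Set G)) :
    ∀ x ∈ X, (∀ k ∈ cp p K, x * k = k * x) → x ∈ cp p K := by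
  have : Fact p.Prime := ⟨hp⟩
  have h2' : ¬ Y ≤ normalizer ((L ⊓ K : Subgroup G) : Set G) := by rwa [inf_comm]
  have hEp : K ⊓ L ≤ cp p K := le_cp inf_le_left hE (h.KB.trans h.nE)
  -- the other primes
  have hr : ∀ r : ℕ, r.Prime → r ≠ p → pCore r K = ⊥ := by
    intro r hr hrp
    have : Fact r.Prime := ⟨hr⟩
    have hrE : K ⊓ L ≠ ⊥ → ¬ IsPGroup r (K ⊓ L : Subgroup G) := by
      intro h0 h3
      apply h0
      obtain ⟨a, ha⟩ := (IsPGroup.iff_card).mp hE
      obtain ⟨b, hb⟩ := (IsPGroup.iff_card).mp h3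
      rw [← Subgroup.card_eq_one]
      have h4 : Nat.card (K ⊓ L : Subgroup G) ∣ Nat.gcd (p ^ a) (r ^ b) :=
        Nat.dvd_gcd ⟨1, by rw [ha, mul_one]⟩ ⟨1, by rw [hb, mul_one]⟩
      rw [(Nat.Coprime.pow a b ((Nat.coprime_primes hp hr).mpr hrp.symm)).gcd_eq_one] at h4
      exact Nat.dvd_one.mp h4
    -- `O_r(K) ≤ L`
    have h3 : cp r K ≤ L := by
      by_contra hc
      -- `O^r(E)` is normal in `Y`
      have h4 := h.symm.of_cp_res hc
      -- `E` is generated by its `r'`-elements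
      have h5 : res r (L ⊓ K) = L ⊓ K := by
        refine le_antisymm (res_le _ _) fun x hx => mem_res hx ?_
        obtain ⟨n, hn⟩ := hE ⟨x, hx.2, hx.1⟩
        have h6 : x ^ p ^ n = 1 := congrArg Subtype.val hn
        exact Nat.Coprime.coprime_dvd_left (orderOf_dvd_of_pow_eq_one h6)
          (Nat.Coprime.pow_left n ((Nat.coprime_primes hp hr).mpr hrp.symm))
      rw [h5] at h4
      exact h2' h4
    have h4 : cp r K ≤ K ⊓ L := le_inf (cp_le r K) h3
    have h5 : cp r K = ⊥ := by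
      have ha := hE.to_le h4
      obtain ⟨a, ha⟩ := (IsPGroup.iff_card).mp ha
      obtain ⟨b, hb⟩ := (IsPGroup.iff_card).mp (cp_pGroup r K)
      rw [← Subgroup.card_eq_one]
      have h6 : Nat.card (cp r K) ∣ Nat.gcd (p ^ a) (r ^ b) :=
        Nat.dvd_gcd ⟨1, by rw [ha, mul_one]⟩ ⟨1, by rw [hb, mul_one]⟩
      rw [(Nat.Coprime.pow a b ((Nat.coprime_primes hp hr).mpr hrp.symm)).gcd_eq_one] at h6
      exact Nat.dvd_one.mp h6
    rwa [cp, Subgroup.map_eq_bot_iff_of_injective _ K.subtype_injective] at h5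
  have hl : layer K = ⊥ := by
    rw [layer, sSup_eq_bot]
    intro C hC
    exfalso
    have hCL : C.map K.subtype ≤ L := by
      by_contra hc
      exact h2' (h.symm.of_component hC hc)
    have hCE : C.map K.subtype ≤ K ⊓ L := le_inf (map_subtype_le _) hCL
    have h3 : IsPGroup p C := (hE.to_le hCE).of_injective
      (C.equivMapOfInjective K.subtype K.subtype_injective).toMonoidHom
      (C.equivMapOfInjective K.subtype K.subtype_injective).injective
    have h4 : Group.IsNilpotent C := h3.isNilpotent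
    exact Components.quasisimple_not_isSolvable hC.2 inferInstance
  have hF : generalizedFittingSubgroup K = pCore p K := by
    rw [generalizedFittingSubgroup, hl, bot_sup_eq, Cores.fittingSubgroup_eq_iSup_pCore]
    apply le_antisymm
    · refine iSup_le fun r => ?_
      by_cases hrp : (r : ℕ) = p
      · rw [hrp]
      · rw [hr r r.2 hrp]; exact bot_le
    · exact le_iSup (fun r : Nat.Primes => pCore (r : ℕ) K) ⟨p, hp⟩
  have hCK := CharP.centralizer_pCore_le_of_genFitting_eq hF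
  intro x hx hxc
  -- `x ∈ K`
  have hxK : x ∈ K := by
    by_contra hxK
    apply h1
    have hXc : X ≤ normalizer (cp p K : Set G) := h.XK.trans (normalizer_le_cp p K)
    refine h.stepC (C := X ⊓ centralizer (cp p K : Set G)) inf_le_left ?_ ?_ ?_ h.nE
    · apply mem_normalizer_of_forall
      rintro g hg c ⟨hc, hc'⟩
      refine ⟨X.mul_mem (X.mul_mem hg hc) (X.inv_mem hg), ?_⟩
      refine mem_centralizer_iff.mpr fun y hy => ?_
      have h3 := mem_centralizer_iff.mp hc' (g⁻¹ * y * g) (conj_mem' (hXc hg) hy)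
      calc y * (g * c * g⁻¹) = g * ((g⁻¹ * y * g) * c) * g⁻¹ := by group
        _ = g * (c * (g⁻¹ * y * g)) * g⁻¹ := by rw [h3]
        _ = g * c * g⁻¹ * y := by group
    · intro hle
      exact hxK (hle ⟨hx, mem_centralizer_iff.mpr fun y hy => (hxc y hy).symm⟩)
    · refine le_trans inf_le_right ?_
      refine le_trans ?_ (centralizer_le_normalizer _)
      exact centralizer_le hEp
  have h3 : (⟨x, hxK⟩ : K) ∈ centralizer (pCore p K : Set K) := by
    rw [mem_centralizer_iff]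
    intro y hy
    exact Subtype.ext (hxc y ⟨y, hy, rfl⟩).symm
  exact ⟨⟨x, hxK⟩, hCK h3, rfl⟩

/-- **The trichotomy.** -/
theorem trichotomy [Finite G] (h : Edge X Y K L) :
    X ≤ normalizer ((K ⊓ L : Subgroup G) : Set G) ∨ Y ≤ normalizer ((K ⊓ L : Subgroup G) : Set G) ∨
      ∃ p : ℕ, p.Prime ∧ IsPGroup p (K ⊓ L : Subgroup G) ∧ K ⊓ L ≠ ⊥ ∧ ¬ cp p L ≤ K ∧ ¬ cp p K ≤ L ∧
        (∀ x ∈ X, (∀ k ∈ cp p K, x * k = k * x) → x ∈ cp p K) ∧
        ∀ y ∈ Y, (∀ l ∈ cp p L, y * l = l * y) → y ∈ cp p L := by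
  by_cases h1 : X ≤ normalizer ((K ⊓ L : Subgroup G) : Set G)
  · exact Or.inl h1
  by_cases h2 : Y ≤ normalizer ((K ⊓ L : Subgroup G) : Set G)
  · exact Or.inr (Or.inl h2)
  refine Or.inr (Or.inr ?_)
  obtain ⟨p, hp, hpL, hpK⟩ := h.exists_cp h1 h2
  have hE0 : K ⊓ L ≠ ⊥ := by
    intro h0
    apply h1
    rw [h0]
    intro g _
    rw [mem_normalizer_iff]
    intro x
    simp [mem_bot]
  have h2' : ¬ Y ≤ normalizer ((L ⊓ K : Subgroup G) : Set G) := by rwa [inf_comm]
  have h1' : ¬ X ≤ normalizer ((L ⊓ K : Subgroup G) : Set G) := by rwa [inf_comm]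
  have hE : IsPGroup p (K ⊓ L : Subgroup G) := by
    by_contra hno
    refine res_ne_bot hp hno (h.both _ ((res_le _ _).trans (inf_le_left.trans h.KB)) (h.of_cp_res hpL) ?_)
    have := h.symm.of_cp_res hpK
    rwa [inf_comm] at this
  refine ⟨p, hp, hE, hE0, hpL, hpK, h.charP hp hE hE0 h1 h2, ?_⟩
  have hE' : IsPGroup p (L ⊓ K : Subgroup G) := by rwa [inf_comm]
  have hE0' : L ⊓ K ≠ ⊥ := by rwa [inf_comm]
  exact h.symm.charP hp hE' hE0' h2' h1'

end Edge

end Cfsg.Agent.H263.TW
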