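import Cfsg.Prelude
import Cfsg.Agent.H482.Tab.Ppd
import Cfsg.Agent.SignalizersComponents.SLQuasisimple
import Cfsg.Agent.SignalizersComponents.BalMain
import Cfsg.Agent.LieClassical.SympCenter
import Cfsg.Agent.LieClassical.SpFourTwo
import Cfsg.Agent.H454.SpExt
import Cfsg.Agent.S0242
import Cfsg.Agent.S0245
import Cfsg.Agent.S0269
import Cfsg.Agent.S0270
import Cfsg.Agent.S1055
import Cfsg.Agent.S1059
import Cfsg.Agent.S0283
import Cfsg.Agent.SmallSimple.S1000.PSLFacts
import Cfsg.Agent.Lib.FieldAutCard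

/-!
# Transitive linear groups with a semiregular subnormal subgroup (helper263, S3414, case (B))
-/

set_option autoImplicit false
set_option linter.unusedSectionVars false
set_option linter.style.haveILetI false

namespace Cfsg.Agent.H263.TW

open Subgroup Cfsg Cfsg.Agent.H482.Tab Cfsg.Agent.SignalizersComponents

/-- a quasisimple group whose order is divisible by `r` (not dividing the order of the center) and `r₀` -/
structure Big (r r₀ : ℕ) (N : Type*) [Group N] : Prop where
  qs : IsQuasisimple N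
  dvd : r ∣ Nat.card N
  cen : ¬ r ∣ Nat.card (Subgroup.center N)
  dvd0 : r₀ ∣ Nat.card N

theorem Big.congr {r r₀ : ℕ} {N N' : Type*} [Group N] [Group N'] (h : Big r r₀ N) (e : N ≃* N') : Big r r₀ N' where
  qs := Components.isQuasisimple_of_mulEquiv e h.qs
  dvd := by rw [← Nat.card_congr e.toEquiv]; exact h.dvd
  cen := by
    rw [← Nat.card_congr (Subgroup.centerCongr e).toEquiv]
    exact h.cen
  dvd0 := by rw [← Nat.card_congr e.toEquiv]; exact h.dvd0

theorem no_big {H : Type*} [Group H] [Finite H] {r r₀ : ℕ} (hr : r.Prime) {M N : Subgroup H} (hM : M.IsSubnormal)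
    (hN : N.Normal) (hB : Big r r₀ N) (h3 : (Nat.card M).factorization r = (Nat.card H).factorization r)
    (h0 : ¬ r₀ ∣ Nat.card M) : False := by
  -- `r ∣ |M ⊓ N|`
  have h4 : r ∣ Nat.card ↥(M ⊓ N) := by
    have h5 : Nat.card ↥(M ⊔ N) * Nat.card ↥(M ⊓ N) = Nat.card M * Nat.card N := by
      have e1 := Subgroup.relIndex_sup_right M N
      have e2 := Subgroup.card_mul_index ((M ⊓ N).subgroupOf M)
      have e3 := Subgroup.card_mul_index (N.subgroupOf (M ⊔ N))
      rw [Nat.card_congr (Subgroup.subgroupOfEquivOfLe inf_le_left).toEquiv] at e2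
      rw [Nat.card_congr (Subgroup.subgroupOfEquivOfLe le_sup_right).toEquiv] at e3
      have e4 : ((M ⊓ N).subgroupOf M).index = (N.subgroupOf (M ⊔ N)).index := by
        change (M ⊓ N).relIndex M = N.relIndex (M ⊔ N)
        rw [inf_comm, Subgroup.inf_relIndex_right, e1]
      rw [← e3, ← e2, e4]
      ring
    by_contra h6
    have h7 : (Nat.card ↥(M ⊔ N)).factorization r ≤ (Nat.card H).factorization r :=
      (Nat.factorization_le_iff_dvd Nat.card_pos.ne' Nat.card_pos.ne').2 (Subgroup.card_subgroup_dvd_card _) r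
    have h8 := congrArg (fun k : ℕ => k.factorization r) h5
    beta_reduce at h8
    rw [Nat.factorization_mul Nat.card_pos.ne' Nat.card_pos.ne',
      Nat.factorization_mul Nat.card_pos.ne' Nat.card_pos.ne'] at h8
    simp only [Finsupp.coe_add, Pi.add_apply, Nat.factorization_eq_zero_of_not_dvd h6] at h8
    have h9 := hr.factorization_pos_of_dvd (Nat.card_pos (α := N)).ne' hB.dvd
    omega
  have h5 : (M.subgroupOf N).IsSubnormal := hM.subgroupOf
  have h6 : Nat.card (M.subgroupOf N) = Nat.card ↥(M ⊓ N) := by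
    rw [← Subgroup.inf_subgroupOf_right]
    exact Nat.card_congr (Subgroup.subgroupOfEquivOfLe inf_le_right).toEquiv
  rcases Components.quasisimple_subnormal hB.qs h5 with h | h
  · rw [subgroupOf_eq_top] at h
    exact h0 (hB.dvd0.trans (Subgroup.card_dvd_of_le h))
  · exact hB.cen ((h6 ▸ h4).trans (Subgroup.card_dvd_of_le h))

theorem big_top {H : Type*} [Group H] {r r₀ : ℕ} (h : Big r r₀ H) : Big r r₀ (⊤ : Subgroup H) :=
  h.congr (Subgroup.topEquiv (G := H)).symm

/-! ### The quasisimple groups of Hering's theorem -/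

section Rows

variable {r r₀ : ℕ} {F : Type*} [Field F] [Fintype F]

/-- the center of `SL_a` -/
theorem center_sl (hr : r.Prime) {a : ℕ} (ha : 1 ≤ a) (h : r ∣ Nat.card (Subgroup.center (Matrix.SpecialLinearGroup (Fin a) F))) :
    r ∣ a ∧ r ∣ Fintype.card F - 1 := by
  have : NeZero a := ⟨by omega⟩
  have e := (Matrix.SpecialLinearGroup.center_equiv_rootsOfUnity' (R := F) (⟨0, by omega⟩ : Fin a))
  rw [Nat.card_congr e.toEquiv, Fintype.card_fin] at h
  refine ⟨?_, ?_⟩
  · have : Fact r.Prime := ⟨hr⟩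
    obtain ⟨x, hx⟩ := exists_prime_orderOf_dvd_card' r h
    have h1 : x ^ a = 1 := by
      apply Subtype.ext
      have h2 := x.2
      rw [mem_rootsOfUnity] at h2
      simpa using h2
    rw [← hx]
    exact orderOf_dvd_of_pow_eq_one h1
  · have h1 : Nat.card (rootsOfUnity a F) ∣ Nat.card Fˣ := Subgroup.card_subgroup_dvd_card _
    rw [Nat.card_units, Nat.card_eq_fintype_card (α := F)] at h1
    exact h.trans h1

/-- `SL_2(q)`, `q` prime to `r₀` -/
theorem big_sl_two (hr : r.Prime) (hr2 : r ≠ 2) {q : ℕ} (hq : Fintype.card F = q) (h3 : 3 < q)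
    (hd : r ∣ q * (q ^ 2 - 1)) (hd0 : r₀ ∣ q * (q ^ 2 - 1)) : Big r r₀ (Matrix.SpecialLinearGroup (Fin 2) F) := by
  have hcard : Nat.card (Matrix.SpecialLinearGroup (Fin 2) F) = q * (q ^ 2 - 1) := by
    have hcard := S0242.result (F := F) rfl 2 (by omega)
    rw [Fin.prod_univ_two, hq, Fin.val_zero, Fin.val_one, pow_zero, pow_one] at hcard
    have e1 : q ^ 2 - q = (q - 1) * q := by rw [pow_two, Nat.sub_mul, one_mul]
    rw [e1] at hcard
    have e2 : (q - 1) * Nat.card (Matrix.SpecialLinearGroup (Fin 2) F) = (q - 1) * (q * (q ^ 2 - 1)) := by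
      rw [hcard]; ring
    exact Nat.eq_of_mul_eq_mul_left (by omega) e2
  refine ⟨?_, by rw [hcard]; exact hd, ?_, by rw [hcard]; exact hd0⟩
  · apply SLQuasisimple.isQuasisimple_two
    rw [Nat.card_eq_fintype_card]
    omega
  · intro h
    exact hr2 ((Nat.prime_dvd_prime_iff_eq hr Nat.prime_two).1 (center_sl hr (by omega) h).1)

theorem big_sl (hr : r.Prime) {a b : ℕ} (ha : 2 ≤ a) (hF : Fintype.card F = r₀ ^ b) (hb : b ≠ 0)
    (hs : ¬ (a = 2 ∧ Fintype.card F ≤ 3))
    (hd : r ∣ (r₀ ^ b) ^ a - 1) (hZ : ¬ (r ∣ a ∧ r ∣ r₀ ^ b - 1)) : Big r r₀ (Matrix.SpecialLinearGroup (Fin a) F) := by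
  have hone := Fintype.one_lt_card (α := F)
  have hcard := S0242.result (F := F) rfl a (by omega)
  rw [hF] at hcard hone
  set q := r₀ ^ b with hq
  -- `(q ^ a - 1) * q ^ (a - 1)` divides the order
  have hdvd : (q ^ a - 1) * q ^ (a - 1) ∣ Nat.card (Matrix.SpecialLinearGroup (Fin a) F) := by
    obtain ⟨k, rfl⟩ : ∃ k, a = k + 2 := ⟨a - 2, by omega⟩
    rw [Fin.prod_univ_succ, Fin.prod_univ_castSucc] at hcard
    simp only [Fin.val_zero, pow_zero, Fin.val_succ, Fin.val_last, Fin.val_castSucc] at hcard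
    have e1 : q ^ (k + 2) - q ^ (k + 1) = (q - 1) * q ^ (k + 1) := by
      rw [pow_succ q (k + 1), ← Nat.mul_sub_one, mul_comm]
    rw [e1] at hcard
    have e2 : (q - 1) * Nat.card (Matrix.SpecialLinearGroup (Fin (k + 2)) F) =
        (q - 1) * (((q ^ (k + 2) - 1) * q ^ (k + 1)) * ∏ x : Fin k, (q ^ (k + 2) - q ^ ((x : ℕ) + 1))) := by
      rw [hcard]; ring
    have e3 := Nat.eq_of_mul_eq_mul_left (by omega) e2
    rw [e3]
    exact Dvd.intro _ rfl
  refine ⟨?_, hd.trans ((Dvd.intro _ rfl).trans hdvd), ?_, ?_⟩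
  · by_cases h3 : 3 ≤ a
    · exact SLQuasisimple.isQuasisimple_of_three_le (by rw [Fintype.card_fin]; exact h3)
    · obtain rfl : a = 2 := by omega
      apply SLQuasisimple.isQuasisimple_two
      rw [Nat.card_eq_fintype_card]
      by_contra h4
      exact hs ⟨rfl, by omega⟩
  · intro h
    apply hZ
    have h1 := center_sl hr (by omega) h
    rwa [hF] at h1
  · refine dvd_trans ?_ ((Dvd.intro_left _ rfl).trans hdvd)
    rw [hq, ← pow_mul]
    exact dvd_pow_self _ (Nat.mul_ne_zero hb (by omega))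

theorem big_sp (hr : r.Prime) (hr2 : r ≠ 2) {m b : ℕ} (hm : 1 ≤ m) (hF : Fintype.card F = r₀ ^ b) (hb : b ≠ 0)
    (hs : ¬ (m = 1 ∧ Fintype.card F ≤ 3)) (hs2 : ¬ (m = 2 ∧ Fintype.card F = 2))
    (hd : r ∣ (r₀ ^ b) ^ (2 * m) - 1) : Big r r₀ (Matrix.symplecticGroup (Fin m) F) := by
  by_cases hm1 : m = 1
  · subst hm1
    refine (big_sl (F := F) hr (a := 2) le_rfl hF hb (fun h => hs ⟨rfl, h.2⟩) (by simpa using hd) ?_).congr
      (Cfsg.Agent.H454.SpExt.spTwo F).symm
    rintro ⟨h1, -⟩
    exact hr2 ((Nat.prime_dvd_prime_iff_eq hr Nat.prime_two).1 h1)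
  have hone := Fintype.one_lt_card (α := F)
  have hcard := S0245.result (F := F) hF m
  have hm2 : 2 ≤ m := by omega
  refine ⟨⟨⟨S0269.result m ?_⟩, S0270.result m hm2 ?_⟩, ?_, ?_, ?_⟩
  · rcases Nat.lt_or_ge 2 m with h | h
    · exact Or.inl h
    · refine Or.inr (Or.inl ⟨by omega, ?_⟩)
      by_contra h4
      exact hs2 ⟨by omega, by omega⟩
  · intro h
    by_contra h4
    exact hs2 ⟨by omega, by omega⟩
  · rw [hcard]
    refine Dvd.dvd.mul_left ?_ _
    refine hd.trans ?_
    have := Finset.dvd_prod_of_mem (fun i => (r₀ ^ b) ^ (2 * (i + 1)) - 1) (Finset.mem_range.2 (show m - 1 < m by omega))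
    rwa [show m - 1 + 1 = m by omega] at this
  · intro h
    rw [← Nat.card_congr (Cfsg.Agent.LieClassical.SympCenter.centerEquiv (F := F) hm),
      Cfsg.Agent.LieClassical.SympCenter.card_sqrt_one] at h
    exact hr2 ((Nat.prime_dvd_prime_iff_eq hr Nat.prime_two).1 (h.trans (Nat.gcd_dvd_left _ _)))
  · rw [hcard]
    refine Dvd.dvd.mul_right ?_ _
    rw [← pow_mul]
    exact dvd_pow_self _ (Nat.mul_ne_zero hb (by positivity))

theorem big_simple {N : Type*} [Group N] (hs : IsSimpleGroup N) (hna : ¬ IsMulCommutative N)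
    (hd : r ∣ Nat.card N) (hd0 : r₀ ∣ Nat.card N) (hr : r.Prime) : Big r r₀ N := by
  have hc : Subgroup.center N = ⊥ := by
    rcases (inferInstance : (Subgroup.center N).Normal).eq_bot_or_eq_top with h | h
    · exact h
    · exact (hna (by rwa [← Subgroup.center_eq_top_iff])).elim
  have h1 : IsQuasisimple N := by
    refine ⟨?_, ?_⟩
    · rw [Group.isPerfect_def]
      rcases (inferInstance : (commutator N).Normal).eq_bot_or_eq_top with h | h
      · exfalso
        apply hna
        refine ⟨⟨fun a b => ?_⟩⟩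
        have h1 := Subgroup.commutator_mem_commutator (mem_top a) (mem_top b)
        rw [← _root_.commutator_def, h, mem_bot, commutatorElement_eq_one_iff_mul_comm] at h1
        exact h1
      · exact h
    · have e : N ⧸ center N ≃* N :=
        (QuotientGroup.quotientMulEquivOfEq hc).trans (QuotientGroup.quotientBot (G := N))
      exact (MulEquiv.isSimpleGroup_congr e).mpr inferInstance
  have h2 := hc
  refine ⟨h1, hd, ?_, hd0⟩
  rw [h2, Subgroup.card_bot]
  exact hr.one_lt.ne' ∘ Nat.dvd_one.1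

end Rows

end Cfsg.Agent.H263.TW
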