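import Cfsg.Agent.H263.TW.Edge
import Cfsg.Agent.H873.Tits.Stmts

/-!
# Thompson-Wielandt for strongly transitive generalized polygons (helper263): `StTW`

* `K_smul`, `S_smul` : conjugation;
* `edge` : `Edge (S x) (S y) (K x) (K y)` for adjacent `x`, `y`;
* `st_tw : StTW`;
* `K_eq_bot_of_le` : in case (B), if `K x ≤ K y` for one edge then `K x = ⊥`.
-/

set_option autoImplicit false

namespace Cfsg.Agent.H263.TW

open Subgroup Cfsg.Agent.H873.Tits Cfsg.Agent.Lib Cfsg.Agent.Lib.LocalCore Cfsg.Agent.H900.TWCore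

universe u v

variable {G : Type u} [Group G] {V : Type v} [MulAction G V]

theorem mem_S {P : Pol G V} {v : V} {g : G} : g ∈ P.S v ↔ g • v = v := Iff.rfl

theorem K_smul (P : Pol G V) (g : G) (v : V) : P.K (g • v) = (P.K v).map (MulAut.conj g).toMonoidHom := by
  ext a
  rw [mem_map_equiv, MulAut.conj_symm_apply, P.mem_K, P.mem_K]
  constructor
  · rintro ⟨h1, h2⟩
    refine ⟨by rw [mul_smul, mul_smul, h1, inv_smul_smul], fun w hw => ?_⟩
    rw [mul_smul, mul_smul, h2 _ (P.smul_adj g hw), inv_smul_smul]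
  · rintro ⟨h1, h2⟩
    refine ⟨?_, fun w hw => ?_⟩
    · rw [mul_smul, mul_smul, inv_smul_eq_iff] at h1
      exact h1
    · have h3 : P.adj v (g⁻¹ • w) := by
        have := P.smul_adj g⁻¹ hw
        rwa [inv_smul_smul] at this
      have h4 := h2 _ h3
      rw [mul_smul, mul_smul, smul_inv_smul, inv_smul_eq_iff, smul_inv_smul] at h4
      exact h4

theorem S_smul (P : Pol G V) (g : G) (v : V) : P.S (g • v) = (P.S v).map (MulAut.conj g).toMonoidHom := by
  ext a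
  rw [mem_map_equiv, MulAut.conj_symm_apply, mem_S, mem_S, mul_smul, mul_smul, inv_smul_eq_iff]

theorem conj_mem_K {P : Pol G V} {v : V} {g a : G} (hg : g ∈ P.S v) (ha : a ∈ P.K v) : g * a * g⁻¹ ∈ P.K v := by
  have h1 : g * a * g⁻¹ ∈ P.K (g • v) := by
    rw [K_smul]
    exact ⟨a, ha, rfl⟩
  rwa [mem_S.1 hg] at h1

theorem conj_mem_K' {P : Pol G V} {v : V} {g a : G} (ha : a ∈ P.K v) : g * a * g⁻¹ ∈ P.K (g • v) := by
  rw [K_smul]
  exact ⟨a, ha, rfl⟩

theorem S_le_normalizer_K (P : Pol G V) (v : V) : P.S v ≤ normalizer (P.K v : Set G) := by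
  intro g hg
  rw [mem_normalizer_iff]
  intro a
  refine ⟨fun ha => conj_mem_K hg ha, fun ha => ?_⟩
  have h1 := conj_mem_K (inv_mem hg) ha
  have h2 : g⁻¹ * (g * a * g⁻¹) * g⁻¹⁻¹ = a := by group
  rwa [h2] at h1

theorem K_le_S_nb {P : Pol G V} {x y : V} (h : P.adj x y) : P.K x ≤ P.S y := fun _ ha => ha.2 y h

/-- transitivity of `S x` on the neighbours -/
theorem trans_nb {P : Pol G V} (F : Facts P) {x y z : V} (hy : P.adj x y) (hz : P.adj x z) :
    ∃ g ∈ P.S x, g • y = z := by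
  by_cases h : y = z
  · exact ⟨1, one_mem _, by rw [one_smul, h]⟩
  · obtain ⟨g, hg, h1, -⟩ := F.two_trans hy hz h hz hy (Ne.symm h)
    exact ⟨g, hg, h1⟩

theorem max_aux {P : Pol G V} (F : Facts P) {x y : V} (hxy : P.adj x y) (T : Subgroup G) (h1 : P.S x ⊓ P.S y ≤ T)
    (h2 : T ≤ P.S x) : T = P.S x ⊓ P.S y ∨ T = P.S x := by
  by_cases h : T ≤ P.S y
  · exact Or.inl (le_antisymm (le_inf h2 h) h1)
  right
  obtain ⟨t, ht, hty⟩ := SetLike.not_le_iff_exists.1 h
  refine le_antisymm h2 ?_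
  intro g hg
  have hadj : ∀ g' ∈ P.S x, P.adj x (g' • y) := by
    intro g' hg'
    have := P.smul_adj g' hxy
    rwa [mem_S.1 hg'] at this
  by_cases hgy : g • y = y
  · exact h1 ⟨hg, hgy⟩
  obtain ⟨a, ha, ha1, ha2⟩ := F.two_trans hxy (hadj t (h2 ht)) (fun h => hty (mem_S.2 h.symm)) hxy (hadj g hg)
    (fun h => hgy h.symm)
  have h3 : a ∈ T := h1 ⟨ha, ha1⟩
  have h4 : (a * t)⁻¹ * g ∈ T := by
    have h5 : (a * t)⁻¹ * g ∈ P.S y := by
      rw [mem_S, mul_smul, inv_smul_eq_iff, mul_smul, ha2]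
    have h6 : (a * t)⁻¹ * g ∈ P.S x := mul_mem (inv_mem (mul_mem ha (h2 ht))) hg
    exact h1 ⟨h6, h5⟩
  have h5 := mul_mem (mul_mem h3 ht) h4
  rwa [mul_inv_cancel_left] at h5

theorem le_K {P : Pol G V} (F : Facts P) {x y : V} (hxy : P.adj x y) (T : Subgroup G) (h1 : T ≤ P.S x ⊓ P.S y)
    (h2 : P.S x ≤ normalizer (T : Set G)) : T ≤ P.K x := by
  intro t ht
  refine ⟨(h1 ht).1, fun z hz => ?_⟩
  obtain ⟨g, hg, rfl⟩ := trans_nb F hxy hz
  have h3 : g⁻¹ * t * g ∈ T := conj_mem' (h2 hg) ht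
  have h4 := mem_S.1 (h1 h3).2
  rw [mul_smul, mul_smul, inv_smul_eq_iff] at h4
  exact h4

theorem edge {P : Pol G V} (F : Facts P) {x y : V} (hxy : P.adj x y) : Edge (P.S x) (P.S y) (P.K x) (P.K y) where
  maxX := max_aux F hxy
  maxY := fun T h1 h2 => by
    rw [inf_comm] at h1 ⊢
    exact max_aux F (P.symm hxy) T h1 h2
  both := fun T h1 h2 h3 => F.core T hxy h1 (fun g hg a ha => conj_mem (K := T) (h2 hg) ha)
    fun g hg a ha => conj_mem (K := T) (h3 hg) ha
  KB := le_inf (P.K_le_S x) (K_le_S_nb hxy)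
  XK := S_le_normalizer_K P x
  leK := le_K F hxy
  LB := le_inf (K_le_S_nb (P.symm hxy)) (P.K_le_S y)
  YL := S_le_normalizer_K P y
  leL := fun T h1 h2 => le_K F (P.symm hxy) T (by rwa [inf_comm] at h1) h2

/-! ### Transport -/

theorem edge_trans (P : Pol G V) {x y x' y' : V} (h : P.adj x y) (h' : P.adj x' y') (ht : P.tp x = P.tp x') :
    ∃ g : G, g • x = x' ∧ g • y = y' := by
  have h1 : ∀ {a b : V}, P.adj a b → IsPath P.adj 1 (fun i => if i = 0 then a else b) := by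
    intro a b hab
    refine ⟨fun i hi => ?_, fun i hi => by omega⟩
    have : i = 0 := by omega
    subst this
    simpa using hab
  have h2 : 1 ≤ P.n + 1 := by omega
  obtain ⟨g, hg⟩ := P.trans h2 (h1 h) (h1 h') (by simpa using ht)
  exact ⟨g, by simpa using hg 0 (by omega), by simpa using hg 1 le_rfl⟩

theorem tp_ne {P : Pol G V} {x y : V} (h : P.adj x y) : P.tp x ≠ P.tp y := by
  rw [P.tp_adj h]
  cases P.tp x <;> simp

/-- the property of case (A) for one edge -/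
def PA (P : Pol G V) (p : ℕ) (x y : V) : Prop :=
  IsPGroup p (P.K x ⊓ P.K y : Subgroup G) ∧ ¬ cp p (P.K y) ≤ P.K x ∧ ¬ cp p (P.K x) ≤ P.K y

theorem cp_map_conj (p : ℕ) (H : Subgroup G) (g : G) :
    (cp p H).map (MulAut.conj g).toMonoidHom ≤ cp p (H.map (MulAut.conj g).toMonoidHom) := by
  refine le_cp (Subgroup.map_mono (cp_le p H)) ((cp_pGroup p H).map _) ?_
  apply mem_normalizer_of_forall
  rintro _ ⟨a, ha, rfl⟩ _ ⟨b, hb, rfl⟩
  refine ⟨a * b * a⁻¹, conj_mem (normalizer_le_cp p H (le_normalizer ha)) hb, by simp [mul_assoc]⟩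

theorem PA.smul {P : Pol G V} {p : ℕ} {x y : V} (h : PA P p x y) (g : G) : PA P p (g • x) (g • y) := by
  obtain ⟨h1, h2, h3⟩ := h
  refine ⟨?_, ?_, ?_⟩
  · rw [K_smul, K_smul, ← Subgroup.map_inf _ _ _ (MulAut.conj g).injective]
    exact h1.map _
  · intro h4
    apply h2
    rw [K_smul, K_smul] at h4
    intro a ha
    obtain ⟨b, hb, hab⟩ := h4 (cp_map_conj p _ g ⟨a, ha, rfl⟩)
    rwa [← (MulAut.conj g).injective hab]
  · intro h4
    apply h3
    rw [K_smul, K_smul] at h4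
    intro a ha
    obtain ⟨b, hb, hab⟩ := h4 (cp_map_conj p _ g ⟨a, ha, rfl⟩)
    rwa [← (MulAut.conj g).injective hab]

theorem PA.symm {P : Pol G V} {p : ℕ} {x y : V} (h : PA P p x y) : PA P p y x :=
  ⟨by rw [inf_comm]; exact h.1, h.2.2, h.2.1⟩

theorem caseA_of {P : Pol G V} {p : ℕ} (hp : p.Prime) {x y : V} (hxy : P.adj x y) (h : PA P p x y) : CaseA P p := by
  have h1 : ∀ {x' y' : V}, P.adj x' y' → PA P p x' y' := by
    intro x' y' h'
    by_cases ht : P.tp x = P.tp x'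
    · obtain ⟨g, rfl, rfl⟩ := edge_trans P hxy h' ht
      exact h.smul g
    · have ht' : P.tp x = P.tp y' := by
        rw [P.tp_adj h']
        revert ht
        cases P.tp x <;> cases P.tp x' <;> simp
      obtain ⟨g, rfl, rfl⟩ := edge_trans P hxy (P.symm h') ht'
      exact (h.smul g).symm
  refine ⟨hp, fun h' => (h1 h').1, fun {x' y'} h' => ⟨cp p (P.K y'), cp_le _ _, ?_, cp_pGroup _ _, (h1 h').2.1⟩⟩
  constructor
  intro n hn g
  exact conj_mem (K := cp p (P.K y')) (normalizer_le_cp p _ (S_le_normalizer_K P y' g.2)) hn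

/-- the property of case (B) for one edge -/
theorem norm_smul {P : Pol G V} {x y : V} (h : P.S y ≤ normalizer ((P.K x ⊓ P.K y : Subgroup G) : Set G)) (g : G) :
    P.S (g • y) ≤ normalizer ((P.K (g • x) ⊓ P.K (g • y) : Subgroup G) : Set G) := by
  rw [S_smul, K_smul, K_smul, ← Subgroup.map_inf _ _ _ (MulAut.conj g).injective]
  apply mem_normalizer_of_forall
  rintro _ ⟨a, ha, rfl⟩ _ ⟨b, hb, rfl⟩
  exact ⟨a * b * a⁻¹, conj_mem (K := P.K x ⊓ P.K y) (h ha) hb, by simp [mul_assoc]⟩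

/-- In case (B) the kernels `K x` (type not `b`) are trivial as soon as one of them is contained in a neighbouring kernel. -/
theorem K_eq_bot_of_norm {P : Pol G V} (F : Facts P) {x y : V} (hxy : P.adj x y)
    (h : P.S y ≤ normalizer ((P.K x ⊓ P.K y : Subgroup G) : Set G)) (hle : P.K x ≤ P.K y) : P.K x = ⊥ := by
  have h1 : P.K x ⊓ P.K y = P.K x := inf_eq_left.2 hle
  rw [h1] at h
  exact (edge F hxy).both _ (edge F hxy).KB (S_le_normalizer_K P x) h

theorem caseB_of {P : Pol G V} (F : Facts P) {x y : V} (hxy : P.adj x y)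
    (h : P.S y ≤ normalizer ((P.K x ⊓ P.K y : Subgroup G) : Set G)) : ∃ b, CaseB P b := by
  -- all edges
  have hall : ∀ {x' y' : V}, P.adj x' y' → P.tp y' = P.tp y →
      P.S y' ≤ normalizer ((P.K x' ⊓ P.K y' : Subgroup G) : Set G) := by
    intro x' y' h' ht
    obtain ⟨g, rfl, rfl⟩ := edge_trans P (P.symm hxy) (P.symm h') ht.symm
    exact norm_smul h g
  by_cases hle : P.K x ≤ P.K y
  · -- `K x = ⊥`
    have h0 : P.K x = ⊥ := K_eq_bot_of_norm F hxy h hle
    have h0' : ∀ {v : V}, P.tp v = P.tp x → P.K v = ⊥ := by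
      intro v hv
      obtain ⟨w, hw⟩ : ∃ w, P.adj v w := by
        have h3 : Nat.card {w : V // P.adj v w} ≠ 0 := by rw [P.card_nb v]; omega
        obtain ⟨⟨w, hw⟩⟩ := (Nat.card_ne_zero.1 h3).1
        exact ⟨w, hw⟩
      obtain ⟨g, rfl, -⟩ := edge_trans P hxy hw hv.symm
      rw [K_smul, h0, Subgroup.map_bot]
    refine ⟨P.tp x, ⟨fun {x' y' z'} hy' _ _ => ?_, fun {w' x' y'} hy' _ _ _ => ?_⟩⟩
    · rw [h0' hy', inf_bot_eq]; exact bot_le
    · rw [h0' hy', bot_inf_eq]; exact bot_le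
  · refine ⟨P.tp y, ?_⟩
    have hball : ∀ {x' y' z' : V}, P.tp y' = P.tp y → P.adj x' y' → P.adj z' y' → P.K x' ⊓ P.K y' ≤ P.K z' := by
      intro x' y' z' ht hx' hz'
      obtain ⟨g, hg, rfl⟩ := trans_nb F (P.symm hx') (P.symm hz')
      intro a ha
      have h3 : g⁻¹ * a * g ∈ P.K x' ⊓ P.K y' := conj_mem' (hall hx' ht hg) ha
      have h4 : g * (g⁻¹ * a * g) * g⁻¹ ∈ P.K (g • x') := conj_mem_K' h3.1
      have h5 : g * (g⁻¹ * a * g) * g⁻¹ = a := by group
      rwa [h5] at h4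
    refine ⟨hball, ?_⟩
    intro w' x' y' ht hx' hw' hne k hk
    -- an element of some `K x''`, `x'' ~ y'`, moving `x'`
    obtain ⟨x'', a, hx'', ha, hax⟩ : ∃ (x'' : V) (a : G), P.adj x'' y' ∧ a ∈ P.K x'' ∧ a • x' ≠ x' := by
      obtain ⟨a, ha, hay⟩ := SetLike.not_le_iff_exists.1 hle
      obtain ⟨z, hz, haz⟩ : ∃ z, P.adj y z ∧ a • z ≠ z := by
        by_contra hcon
        push Not at hcon
        exact hay ⟨K_le_S_nb hxy ha, hcon⟩
      obtain ⟨g, h1, h2⟩ := edge_trans P hz (P.symm hx') ht.symm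
      refine ⟨g • x, g * a * g⁻¹, ?_, conj_mem_K' ha, ?_⟩
      · rw [← h1]; exact P.smul_adj g hxy
      · rw [← h2, mul_smul, mul_smul, inv_smul_smul]
        exact fun h => haz (smul_left_cancel g h)
    set z := a • x' with hz
    have hay : a • y' = y' := K_le_S_nb hx'' ha
    have hzy : P.adj z y' := by
      have := P.smul_adj a hx'
      rwa [hay] at this
    set u := a • w' with hu
    have huz : P.adj z u := P.smul_adj a (P.symm hw')
    have huy : u ≠ y' := by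
      intro h3
      apply hne
      rw [← hay, hu] at h3
      exact smul_left_cancel a h3
    -- elements of `K y'` fix `w'` iff they fix `u`
    have hcomm : ∀ k' ∈ P.K y', a * k' * a⁻¹ * k'⁻¹ ∈ P.K x'' ⊓ P.K y' := by
      intro k' hk'
      refine ⟨?_, ?_⟩
      · have h3 : k' * a⁻¹ * k'⁻¹ ∈ P.K x'' := conj_mem_K (K_le_S_nb (P.symm hx'') hk') (inv_mem ha)
        have h4 := mul_mem ha h3
        rwa [show a * (k' * a⁻¹ * k'⁻¹) = a * k' * a⁻¹ * k'⁻¹ by group] at h4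
      · have h5 : a * k' * a⁻¹ ∈ P.K y' := conj_mem_K (mem_S.2 hay) hk'
        exact (P.K y').mul_mem h5 ((P.K y').inv_mem hk')
    have hfix : ∀ k' ∈ P.K y', (k' • w' = w' ↔ k' • u = u) := by
      intro k' hk'
      have h3 : (a * k' * a⁻¹ * k'⁻¹) ∈ P.K z := hball ht hx'' hzy (hcomm k' hk')
      have h3' : (a * k' * a⁻¹ * k'⁻¹)⁻¹ • u = u := (inv_mem h3).2 u huz
      have h3'' : (a * k' * a⁻¹ * k'⁻¹) • u = u := h3.2 u huz
      constructor
      · intro h4
        have h5 : k' • u = (a * k' * a⁻¹ * k'⁻¹)⁻¹ • (a * k' * a⁻¹) • u := by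
          rw [← mul_smul (a * k' * a⁻¹ * k'⁻¹)⁻¹ (a * k' * a⁻¹) u,
            show (a * k' * a⁻¹ * k'⁻¹)⁻¹ * (a * k' * a⁻¹) = k' by group]
        have h6 : (a * k' * a⁻¹) • u = u := by
          rw [hu, mul_smul, mul_smul, inv_smul_smul, h4]
        rw [h5, h6, h3']
      · intro h4
        have h5 : k' • w' = a⁻¹ • ((a * k' * a⁻¹ * k'⁻¹) • k' • u) := by
          rw [hu, ← mul_smul, ← mul_smul, ← mul_smul,
            show a⁻¹ * (a * k' * a⁻¹ * k'⁻¹) * k' * a = k' by group]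
        rw [h5, h4, h3'', hu, inv_smul_smul]
    refine ⟨hk.1.2 x' (P.symm hx'), fun w hw => ?_⟩
    by_cases hwy : w = y'
    · rw [hwy]; exact hk.1.1
    obtain ⟨g, hg, hg1, hg2⟩ := F.pair_trans hx' hzy (Ne.symm hax) (P.symm hw') hne huz huy hw hwy huz huy
    have h7 : k • u = u := (hfix k hk.1).1 hk.2
    have hgy : g ∈ P.S y' := hg.1.2
    have h8 : g⁻¹ * k * g ∈ P.K y' := by
      have := conj_mem_K (inv_mem hgy) hk.1
      rwa [inv_inv] at this
    have h9 : (g⁻¹ * k * g) • u = u := by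
      rw [mul_smul, mul_smul, hg2, h7, inv_smul_eq_iff, hg2]
    have h10 := (hfix _ h8).2 h9
    rw [mul_smul, mul_smul, inv_smul_eq_iff, hg1] at h10
    exact h10

/-- **Thompson-Wielandt for strongly transitive generalized polygons.** -/
theorem st_tw : StTW.{u, v} := by
  intro G _ _ V _ _ P F
  obtain ⟨x⟩ := P.nonempty
  obtain ⟨y, hxy⟩ : ∃ w, P.adj x w := by
    have h3 : Nat.card {w : V // P.adj x w} ≠ 0 := by rw [P.card_nb x]; omega
    obtain ⟨⟨w, hw⟩⟩ := (Nat.card_ne_zero.1 h3).1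
    exact ⟨w, hw⟩
  rcases (edge F hxy).trichotomy with h | h | ⟨p, hp, h1, -, h2, h3, -, -⟩
  · right
    exact caseB_of F (P.symm hxy) (by rwa [inf_comm] at h)
  · right
    exact caseB_of F hxy h
  · left
    exact ⟨p, caseA_of hp hxy ⟨h1, h2, h3⟩⟩

/-- In case (B), if `K x ≤ K y` for one edge with `tp y = b`, then `K x = ⊥` (and `K x ⊓ K y = ⊥`). -/
theorem K_eq_bot_of_le {P : Pol G V} (F : Facts P) {b : Bool} (hB : CaseB P b) {x y : V} (hxy : P.adj x y)
    (hb : P.tp y = b) (hle : P.K x ≤ P.K y) : P.K x = ⊥ ∧ P.K x ⊓ P.K y = ⊥ := by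
  have h1 : P.S y ≤ normalizer ((P.K x ⊓ P.K y : Subgroup G) : Set G) := by
    apply mem_normalizer_of_forall
    intro g hg a ha
    refine ⟨?_, conj_mem_K hg ha.2⟩
    have h2 : P.adj (g⁻¹ • x) y := by
      have := P.smul_adj g⁻¹ hxy
      rwa [mem_S.1 (inv_mem hg)] at this
    have h3 : a ∈ P.K (g⁻¹ • x) := hB.ball hb hxy h2 ha
    have h4 := conj_mem_K' (g := g) h3
    rwa [smul_inv_smul] at h4
  have h0 := K_eq_bot_of_norm F hxy h1 hle
  exact ⟨h0, by rw [h0, bot_inf_eq]⟩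

end Cfsg.Agent.H263.TW
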